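import Cfsg.Agent.Lib.Local.CNFrobenius
import Cfsg.Agent.Lib.Solv.FixedPointFree

/-!
# A TI-subgroup with odd centralisers and many involutions: the double coset decomposition

When the number of involutions exceeds the index of `M`, every element outside `N(M)` is uniquely an
involution times an element of `M`, and every element outside `N(M)` is uniquely `u * s * v` with
`u, v ∈ M` and `s ∈ C(z)` outside `K = N(M) ∩ C(z)`.
-/

set_option autoImplicit false
set_option linter.style.haveILetI false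
set_option linter.unusedSectionVars false

namespace Cfsg.Lib.TICount

open Subgroup

variable {G : Type*} [Group G]

theorem mul_self_of_orderOf {t : G} (h : orderOf t = 2) : t * t = 1 := by
  rw [← sq, ← h, pow_orderOf_eq_one]

theorem inv_of_orderOf {t : G} (h : orderOf t = 2) : t⁻¹ = t :=
  inv_eq_of_mul_eq_one_right (mul_self_of_orderOf h)

theorem ne_one_of_orderOf {t : G} (h : orderOf t = 2) : t ≠ 1 := fun e => by
  rw [e, orderOf_one] at h; exact absurd h (by norm_num)

theorem orderOf_two {t : G} (h : t * t = 1) (h1 : t ≠ 1) : orderOf t = 2 :=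
  orderOf_eq_prime (by rw [sq, h]) h1

theorem orderOf_conj_eq' (g x : G) : orderOf (g * x * g⁻¹) = orderOf x :=
  orderOf_injective (MulAut.conj g).toMonoidHom (MulAut.conj g).injective x

/-- The standing hypotheses, with the two degenerate alternatives excluded. -/
structure Setup (M : Subgroup G) (z : G) : Prop where
  ne_bot : M ≠ ⊥
  ti : ∀ g : G, M ⊓ M.map (MulAut.conj g).toMonoidHom ≠ ⊥ → M.map (MulAut.conj g).toMonoidHom = M
  invol : orderOf z = 2
  mem : z ∈ normalizer (M : Set G)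
  fac : M ⊔ (normalizer (M : Set G) ⊓ centralizer ({z} : Set G)) = normalizer (M : Set G)
  oddc : ∀ x ∈ M, x ≠ 1 → Odd (Nat.card ↥(centralizer ({x} : Set G)))
  notNormal : ¬ M.Normal
  many : M.index < Nat.card {g : G // orderOf g = 2}

/-- The complement `N(M) ∩ C(z)`. -/
abbrev kGrp (M : Subgroup G) (z : G) : Subgroup G :=
  normalizer (M : Set G) ⊓ centralizer ({z} : Set G)

theorem mem_kGrp {M : Subgroup G} {z k : G} :
    k ∈ kGrp M z ↔ k ∈ normalizer (M : Set G) ∧ k * z = z * k := by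
  rw [mem_inf, mem_centralizer_singleton_iff]

variable [Finite G] {M : Subgroup G} {z : G} (h : Setup M z)
include h

/-- An element conjugating a non-identity element of `M` into `M` normalises `M`. -/
theorem mem_N_of_conj {g x : G} (hx : x ∈ M) (hx1 : x ≠ 1) (hg : g * x * g⁻¹ ∈ M) :
    g ∈ normalizer (M : Set G) := by
  have hne : M ⊓ M.map (MulAut.conj g).toMonoidHom ≠ ⊥ := fun e => hx1 (by
    have : g * x * g⁻¹ ∈ M ⊓ M.map (MulAut.conj g).toMonoidHom := ⟨hg, x, hx, rfl⟩
    rw [e, mem_bot, mul_inv_eq_one, mul_eq_left] at this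
    exact this)
  refine mem_normalizer_fintype fun y hy => ?_
  have : g * y * g⁻¹ ∈ M.map (MulAut.conj g).toMonoidHom := ⟨y, hy, rfl⟩
  rw [h.ti g hne] at this
  exact this

/-- No involution centralises a non-identity element of `M`. -/
theorem not_commute_invol {x t : G} (hx : x ∈ M) (hx1 : x ≠ 1) (ht : orderOf t = 2) : t * x ≠ x * t := by
  intro hc
  have hd := (centralizer ({x} : Set G)).orderOf_dvd_natCard (mem_centralizer_singleton_iff.mpr hc)
  rw [ht] at hd
  exact Nat.not_even_iff_odd.mpr (h.oddc x hx hx1) (even_iff_two_dvd.mpr hd)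

theorem odd_orderOf {x : G} (hx : x ∈ M) : Odd (orderOf x) := by
  rcases eq_or_ne x 1 with rfl | hx1
  · simp
  exact (h.oddc x hx hx1).of_dvd_nat
    ((centralizer ({x} : Set G)).orderOf_dvd_natCard (mem_centralizer_singleton_iff.mpr rfl))

theorem eq_one_of_sq {x : G} (hx : x ∈ M) (h2 : x * x = 1) : x = 1 := by
  by_contra h1
  have := odd_orderOf h hx
  rw [orderOf_two h2 h1] at this
  exact absurd this (by decide)

theorem inverts {x : G} (hx : x ∈ M) : z * x * z⁻¹ = x⁻¹ := by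
  refine Cfsg.Lib.Local.CN.inverts_of_fpf (E := zpowers z) (zpowers_le.mpr h.mem) (fun e he he1 => ?_)
    (mem_zpowers z) h.invol hx
  have hez : e = z := by
    obtain ⟨k, rfl⟩ := mem_zpowers_iff.mp he
    rcases Int.even_or_odd k with ⟨j, rfl⟩ | ⟨j, rfl⟩
    · exfalso; apply he1
      rw [← two_mul, zpow_mul, zpow_two, mul_self_of_orderOf h.invol, one_zpow]
    · rw [zpow_add, zpow_one, zpow_mul, zpow_two, mul_self_of_orderOf h.invol, one_zpow, one_mul]
  rw [hez]
  refine eq_bot_iff.mpr fun y hy => mem_bot.mpr (by_contra fun hy1 => ?_)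
  exact not_commute_invol h hy.1 hy1 h.invol (mem_centralizer_singleton_iff.mp hy.2).symm

theorem inverts' {x : G} (hx : x ∈ M) : z * x * z = x⁻¹ := by
  simpa [inv_of_orderOf h.invol] using inverts h hx

theorem comm {x y : G} (hx : x ∈ M) (hy : y ∈ M) : x * y = y * x := by
  have h1 := inverts h hx
  have h2 := inverts h hy
  have h3 := inverts h (mul_mem hx hy)
  have h4 : z * (x * y) * z⁻¹ = (z * x * z⁻¹) * (z * y * z⁻¹) := by group
  rw [h3, h1, h2, mul_inv_rev] at h4
  simpa using (congrArg (·⁻¹) h4)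

theorem z_mem_kGrp : z ∈ kGrp M z := mem_kGrp.mpr ⟨h.mem, rfl⟩

theorem z_notMem : z ∉ M := fun hz => not_commute_invol h hz (ne_one_of_orderOf h.invol) h.invol rfl

theorem kGrp_inf {k : G} (hk : k ∈ kGrp M z) (hkM : k ∈ M) : k = 1 :=
  by_contra fun h1 => not_commute_invol h hkM h1 h.invol (mem_kGrp.mp hk).2.symm

theorem conj_mem {n x : G} (hn : n ∈ normalizer (M : Set G)) (hx : x ∈ M) : n * x * n⁻¹ ∈ M :=
  (mem_normalizer_iff.mp hn x).mp hx

theorem exists_decomp {n : G} (hn : n ∈ normalizer (M : Set G)) :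
    ∃ m ∈ M, ∃ k ∈ kGrp M z, m * k = n := by
  have hn' : n ∈ ((M ⊔ kGrp M z : Subgroup G) : Set G) := h.fac.ge hn
  rw [coe_mul_of_right_le_normalizer_left M (kGrp M z) inf_le_left] at hn'
  obtain ⟨m, hm, k, hk, e⟩ := Set.mem_mul.mp hn'
  exact ⟨m, hm, k, hk, e⟩

theorem decomp_unique {m m' k k' : G} (hm : m ∈ M) (hm' : m' ∈ M) (hk : k ∈ kGrp M z) (hk' : k' ∈ kGrp M z)
    (e : m * k = m' * k') : m = m' ∧ k = k' := by
  have e1 : m'⁻¹ * m = k' * k⁻¹ := by
    rw [eq_mul_inv_iff_mul_eq, mul_assoc, e, inv_mul_cancel_left]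
  have := kGrp_inf h (mul_mem hk' (inv_mem hk)) (e1 ▸ mul_mem (inv_mem hm') hm)
  rw [mul_inv_eq_one] at this
  subst this
  exact ⟨mul_right_cancel e, rfl⟩

theorem card_N : Nat.card ↥(normalizer (M : Set G)) = Nat.card M * Nat.card ↥(kGrp M z) := by
  rw [← Nat.card_prod]
  refine (Nat.card_congr (Equiv.ofBijective (fun p : M × ↥(kGrp M z) =>
    (⟨p.1 * p.2, mul_mem (le_normalizer p.1.2) p.2.2.1⟩ : ↥(normalizer (M : Set G))))
    ⟨fun p q e => ?_, fun n => ?_⟩)).symm
  · obtain ⟨e1, e2⟩ := decomp_unique h p.1.2 q.1.2 p.2.2 q.2.2 (congrArg Subtype.val e)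
    exact Prod.ext (Subtype.ext e1) (Subtype.ext e2)
  · obtain ⟨m, hm, k, hk, e⟩ := exists_decomp h n.2
    exact ⟨(⟨m, hm⟩, ⟨k, hk⟩), Subtype.ext e⟩

theorem kGrp_invol {k : G} (hk : k ∈ kGrp M z) (hk2 : orderOf k = 2) : k = z := by
  obtain ⟨x, hx, hx1⟩ := (Subgroup.bot_or_exists_ne_one M).resolve_left h.ne_bot
  by_contra hne
  -- `k` also inverts `M`, so `k * z` is an involution centralising `M`
  have hinv : k * x * k⁻¹ = x⁻¹ := by
    refine Cfsg.Lib.Local.CN.inverts_of_fpf (E := zpowers k) (zpowers_le.mpr hk.1) (fun e he he1 => ?_)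
      (mem_zpowers k) hk2 hx
    refine eq_bot_iff.mpr fun y hy => mem_bot.mpr (by_contra fun hy1 => ?_)
    have hek : e = k := by
      obtain ⟨j, rfl⟩ := mem_zpowers_iff.mp he
      rcases Int.even_or_odd j with ⟨i, rfl⟩ | ⟨i, rfl⟩
      · exfalso; apply he1
        rw [← two_mul, zpow_mul, zpow_two, mul_self_of_orderOf hk2, one_zpow]
      · rw [zpow_add, zpow_one, zpow_mul, zpow_two, mul_self_of_orderOf hk2, one_zpow, one_mul]
    rw [hek] at hy
    exact not_commute_invol h hy.1 hy1 hk2 (mem_centralizer_singleton_iff.mp hy.2).symm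
  have hkz := (mem_kGrp.mp hk).2
  have h2 : k * z * (k * z) = 1 := by
    calc k * z * (k * z) = k * (z * k) * z := by group
      _ = k * (k * z) * z := by rw [← hkz]
      _ = (k * k) * (z * z) := by group
      _ = 1 := by rw [mul_self_of_orderOf hk2, mul_self_of_orderOf h.invol, one_mul]
  have hne1 : k * z ≠ 1 := fun e => hne (by rw [eq_inv_of_mul_eq_one_left e, inv_of_orderOf h.invol])
  refine not_commute_invol h hx hx1 (orderOf_two h2 hne1) ?_
  have hzx := inverts h hx
  calc k * z * x = k * (z * x * z⁻¹) * z := by group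
    _ = k * x⁻¹ * z := by rw [hzx]
    _ = (k * x * k⁻¹)⁻¹ * (k * z) := by group
    _ = x * (k * z) := by rw [hinv, inv_inv]

theorem invol_N {t : G} (ht : orderOf t = 2) (htN : t ∈ normalizer (M : Set G)) : ∃ m ∈ M, t = m * z := by
  obtain ⟨m, hm, k, hk, rfl⟩ := exists_decomp h htN
  have h2 := mul_self_of_orderOf ht
  have hk' : k * m * k⁻¹ ∈ M := conj_mem h hk.1 hm
  have e : m * (k * m * k⁻¹) * (k * k) = 1 * 1 := by rw [one_mul, ← h2]; group
  obtain ⟨e1, e2⟩ := decomp_unique h (mul_mem hm hk') (one_mem M) (mul_mem hk hk) (one_mem _) e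
  rcases eq_or_ne k 1 with rfl | hk1
  · rw [mul_one] at ht ⊢
    exact absurd (odd_orderOf h hm) (by rw [ht]; decide)
  · exact ⟨m, hm, by rw [kGrp_invol h hk (orderOf_two e2 hk1)]⟩

theorem orderOf_mul_z {m : G} (hm : m ∈ M) : orderOf (m * z) = 2 :=
  orderOf_two (by
    calc m * z * (m * z) = m * (z * m * z) := by group
      _ = 1 := by rw [inverts' h hm, mul_inv_cancel])
    fun e => z_notMem h (by rw [eq_inv_of_mul_eq_one_right e]; exact inv_mem hm)

theorem card_invol_N :
    Nat.card {t : G // orderOf t = 2 ∧ t ∈ normalizer (M : Set G)} = Nat.card M := by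
  refine (Nat.card_congr (Equiv.ofBijective (fun m : M =>
    (⟨(m : G) * z, orderOf_mul_z h m.2, mul_mem (le_normalizer m.2) h.mem⟩ :
      {t : G // orderOf t = 2 ∧ t ∈ normalizer (M : Set G)})) ⟨fun a b e => ?_, fun t => ?_⟩)).symm
  · exact Subtype.ext (mul_right_cancel (congrArg Subtype.val e))
  · obtain ⟨m, hm, e⟩ := invol_N h t.2.1 t.2.2
    exact ⟨⟨m, hm⟩, Subtype.ext e.symm⟩

/-- At most one involution outside `N(M)` in each coset of `M`. -/
theorem one_per_coset {t m : G} (ht : orderOf t = 2) (htN : t ∉ normalizer (M : Set G)) (hm : m ∈ M)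
    (h2 : (t * m) * (t * m) = 1) : m = 1 := by
  by_contra hm1
  refine htN (mem_N_of_conj h hm hm1 ?_)
  have e : t * m * t⁻¹ = m⁻¹ := by
    refine eq_inv_of_mul_eq_one_left ?_
    rw [inv_of_orderOf ht]
    calc t * m * t * m = t * m * (t * m) := by group
      _ = 1 := h2
  rw [e]; exact inv_mem hm

theorem index_M : M.index = Nat.card ↥(kGrp M z) * (normalizer (M : Set G)).index := by
  have h1 := (normalizer (M : Set G)).card_mul_index
  have h2 := M.card_mul_index
  rw [card_N h, mul_assoc] at h1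
  exact (Nat.eq_of_mul_eq_mul_left Nat.card_pos (h1.trans h2.symm)).symm

/-- Every element outside `N(M)` is an involution times an element of `M`. -/
theorem exists_invol_mul {g : G} (hg : g ∉ normalizer (M : Set G)) :
    ∃ t m : G, orderOf t = 2 ∧ t ∉ normalizer (M : Set G) ∧ m ∈ M ∧ g = t * m := by
  classical
  set N := normalizer (M : Set G) with hN
  have hMN : M ≤ N := le_normalizer
  haveI := Fintype.ofFinite (G ⧸ M)
  let Y := {c : G ⧸ M // ¬ ∃ n ∈ N, (QuotientGroup.mk n : G ⧸ M) = c}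
  let T := {t : G // orderOf t = 2 ∧ t ∉ N}
  have hmk : ∀ x : G, x ∉ N → ¬ ∃ n ∈ N, (QuotientGroup.mk n : G ⧸ M) = QuotientGroup.mk x := by
    rintro x hx ⟨n, hn, e⟩
    rw [QuotientGroup.eq] at e
    exact hx (by simpa using mul_mem hn (hMN e))
  let f : T → Y := fun t => ⟨QuotientGroup.mk t.1, hmk _ t.2.2⟩
  have hf : Function.Injective f := fun a b e => by
    have e' := congrArg Subtype.val e
    simp only [f, QuotientGroup.eq] at e'
    refine Subtype.ext ?_
    have h1 := one_per_coset h a.2.1 a.2.2 e' (by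
      rw [mul_inv_cancel_left]; exact mul_self_of_orderOf b.2.1)
    exact (inv_mul_eq_one.mp h1)
  by_contra hcon
  push Not at hcon
  -- a missed coset has a whole orbit of missed cosets
  have hmiss : ∀ x : G, x ∈ M → ∀ t : T, (QuotientGroup.mk t.1 : G ⧸ M) ≠ QuotientGroup.mk (x * g) := by
    intro x hx t e
    rw [QuotientGroup.eq] at e
    have ht' : orderOf (x⁻¹ * t.1 * x) = 2 := by
      rw [show x⁻¹ * t.1 * x = x⁻¹ * t.1 * x⁻¹⁻¹ by rw [inv_inv], orderOf_conj_eq', t.2.1]
    refine hcon (x⁻¹ * t.1 * x) (x⁻¹ * (t.1⁻¹ * (x * g))) ht' (fun hmem => t.2.2 ?_)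
      (mul_mem (inv_mem hx) e) (by group)
    have := mul_mem (mul_mem (hMN hx) hmem) (inv_mem (hMN hx))
    simpa [mul_assoc] using this
  have hYc : Nat.card Y + Nat.card ↥(kGrp M z) = M.index := by
    have hb : Function.Bijective (fun k : ↥(kGrp M z) =>
        (⟨QuotientGroup.mk (k : G), k, k.2.1, rfl⟩ : {c : G ⧸ M // ∃ n ∈ N, (QuotientGroup.mk n : G ⧸ M) = c})) := by
      refine ⟨fun a b e => ?_, fun c => ?_⟩
      · have e' := congrArg Subtype.val e
        simp only [QuotientGroup.eq] at e'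
        exact Subtype.ext (inv_mul_eq_one.mp (kGrp_inf h (mul_mem (inv_mem a.2) b.2) e'))
      · obtain ⟨n, hn, e⟩ := c.2
        obtain ⟨m, hm, k, hk, rfl⟩ := exists_decomp h hn
        refine ⟨⟨k, hk⟩, Subtype.ext (Eq.trans ?_ e)⟩
        rw [QuotientGroup.eq, show k⁻¹ * (m * k) = k⁻¹ * m * k⁻¹⁻¹ by group]
        exact conj_mem h (inv_mem hk.1) hm
    rw [Nat.card_congr (Equiv.ofBijective _ hb), Subgroup.index, ← Nat.card_sum]
    exact Nat.card_congr ((Equiv.sumComm _ _).trans (Equiv.sumCompl _))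
  have hI : Nat.card {g : G // orderOf g = 2} = Nat.card M + Nat.card T := by
    have hTc : Nat.card T = Nat.card {x : {g : G // orderOf g = 2} // ¬ (x : G) ∈ N} :=
      (Nat.card_congr (Equiv.subtypeSubtypeEquivSubtypeInter _ (fun x : G => ¬ x ∈ N))).symm
    have hNc : Nat.card M = Nat.card {x : {g : G // orderOf g = 2} // (x : G) ∈ N} :=
      ((Nat.card_congr (Equiv.subtypeSubtypeEquivSubtypeInter _ (fun x : G => x ∈ N))).trans
        (card_invol_N h)).symm
    rw [hTc, hNc, ← Nat.card_sum]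
    exact Nat.card_congr (Equiv.sumCompl _).symm
  have hlt : Nat.card T + Nat.card M ≤ Nat.card Y := by
    rw [← Nat.card_sum]
    refine Nat.card_le_card_of_injective (Sum.elim f fun x : M => ⟨QuotientGroup.mk ((x : G) * g),
      hmk _ fun hxg => hg (by simpa using mul_mem (inv_mem (hMN x.2)) hxg)⟩) ?_
    refine hf.sumElim ?_ fun t x e => hmiss _ x.2 t (congrArg Subtype.val e)
    intro a b e
    have e' := congrArg Subtype.val e
    simp only [QuotientGroup.eq] at e'
    refine Subtype.ext (by_contra fun hne => hg ?_)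
    have hne' : (a : G)⁻¹ * b ≠ 1 := fun e1 => hne (inv_mul_eq_one.mp e1)
    have := mem_N_of_conj h (g := g⁻¹) (mul_mem (inv_mem a.2) b.2) hne'
      (by rw [inv_inv]; convert e' using 1; group)
    exact inv_mem_iff.mp this
  have := h.many
  omega

theorem invol_mul_unique {t t' m m' : G} (ht : orderOf t = 2) (htN : t ∉ normalizer (M : Set G))
    (ht' : orderOf t' = 2) (hm : m ∈ M) (hm' : m' ∈ M) (e : t * m = t' * m') : t = t' ∧ m = m' := by
  have h1 : m * m'⁻¹ = 1 := one_per_coset h ht htN (mul_mem hm (inv_mem hm')) (by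
    rw [show t * (m * m'⁻¹) = t * m * m'⁻¹ by group, e, mul_inv_cancel_right]
    exact mul_self_of_orderOf ht')
  rw [mul_inv_eq_one] at h1
  subst h1
  exact ⟨mul_right_cancel e, rfl⟩

/-- An involution outside `N(M)` commutes with some involution of `N(M)`. -/
theorem exists_commuting {t : G} (ht : orderOf t = 2) (htN : t ∉ normalizer (M : Set G)) :
    ∃ x ∈ M, t * (x * z) = x * z * t := by
  have htz : t * z ∉ normalizer (M : Set G) := fun hh => htN (by
    simpa using mul_mem hh (inv_mem h.mem))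
  obtain ⟨t', m, ht', -, hm, e⟩ := exists_invol_mul h htz
  refine ⟨m, hm, ?_⟩
  have e1 : t' = t * (m * z) := by
    rw [eq_mul_inv_of_mul_eq e.symm]
    have hz := inverts' h (inv_mem hm)
    rw [inv_inv] at hz
    calc t * z * m⁻¹ = t * (z * m⁻¹ * z) * z⁻¹ := by group
      _ = t * (m * z) := by rw [hz, inv_of_orderOf h.invol, mul_assoc]
  have h2 := mul_self_of_orderOf ht'
  rw [e1] at h2
  calc t * (m * z) = (t * (m * z))⁻¹ := eq_inv_of_mul_eq_one_left h2
    _ = (m * z)⁻¹ * t⁻¹ := mul_inv_rev _ _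
    _ = m * z * t := by rw [inv_of_orderOf ht, inv_of_orderOf (orderOf_mul_z h hm)]

theorem invol_of_cent {g : G} (hg : g * z = z * g) (hgN : g ∉ normalizer (M : Set G)) : orderOf g = 2 := by
  obtain ⟨t, m, ht, htN, hm, rfl⟩ := exists_invol_mul h hgN
  have ht' : orderOf (z * t * z⁻¹) = 2 := by rw [orderOf_conj_eq', ht]
  have e : t * m = (z * t * z⁻¹) * m⁻¹ := by
    calc t * m = (t * m * z) * z⁻¹ := by group
      _ = z * t * z⁻¹ * (z * m * z⁻¹) := by rw [hg]; group
      _ = _ := by rw [inverts h hm]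
  obtain ⟨-, e2⟩ := invol_mul_unique h ht htN ht' hm (inv_mem hm) e
  rw [eq_one_of_sq h hm (by nth_rewrite 1 [e2]; exact inv_mul_cancel m), mul_one]
  exact ht

/-- Membership in `C(z)` outside `K`. -/
def Sw (M : Subgroup G) (z : G) : Set G := {s | s * z = z * s ∧ s ∉ normalizer (M : Set G)}

theorem sw_invol {s : G} (hs : s ∈ Sw M z) : orderOf s = 2 := invol_of_cent h hs.1 hs.2

theorem exists_sw : ∃ s, s ∈ Sw M z := by
  obtain ⟨g, hg⟩ : ∃ g, g ∉ normalizer (M : Set G) := by
    by_contra hh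
    push Not at hh
    exact h.notNormal (normalizer_eq_top_iff.mp (top_le_iff.mp fun g _ => hh g))
  obtain ⟨t, m, ht, htN, -, -⟩ := exists_invol_mul h hg
  obtain ⟨x, hx, hc⟩ := exists_commuting h ht htN
  obtain ⟨u, hu, hux⟩ : ∃ u ∈ M, u * u = x := by
    obtain ⟨c, hc'⟩ := odd_orderOf h hx
    exact ⟨x ^ (c + 1), pow_mem hx _, by rw [← pow_add, show c + 1 + (c + 1) = orderOf x + 1 by omega,
      pow_succ, pow_orderOf_eq_one, one_mul]⟩
  have hz' : x * z = u * z * u⁻¹ := by
    rw [← hux]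
    have := inverts h (inv_mem hu)
    rw [inv_inv] at this
    calc u * u * z = u * (z * u⁻¹ * z⁻¹) * z := by rw [this]
      _ = u * z * u⁻¹ := by group
  refine ⟨u⁻¹ * t * u, ?_, fun hh => htN ?_⟩
  · rw [hz'] at hc
    calc u⁻¹ * t * u * z = u⁻¹ * (t * (u * z * u⁻¹)) * u := by group
      _ = u⁻¹ * (u * z * u⁻¹ * t) * u := by rw [hc]
      _ = z * (u⁻¹ * t * u) := by group
  · have := mul_mem (mul_mem (le_normalizer hu) hh) (inv_mem (le_normalizer hu))
    simpa [mul_assoc] using this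

theorem sw_mul_kGrp {s k : G} (hs : s ∈ Sw M z) (hk : k ∈ kGrp M z) : s * k ∈ Sw M z :=
  ⟨by rw [mul_assoc, (mem_kGrp.mp hk).2, ← mul_assoc, hs.1, mul_assoc],
    fun hh => hs.2 (by simpa using mul_mem hh (inv_mem hk.1))⟩

theorem sw_inverts {s k : G} (hs : s ∈ Sw M z) (hk : k ∈ kGrp M z) : s * k * s⁻¹ = k⁻¹ := by
  have h1 := mul_self_of_orderOf (sw_invol h (sw_mul_kGrp h hs hk))
  refine eq_inv_of_mul_eq_one_left ?_
  rw [inv_of_orderOf (sw_invol h hs)]
  calc s * k * s * k = s * k * (s * k) := by group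
    _ = 1 := h1

theorem kGrp_comm {a b : G} (ha : a ∈ kGrp M z) (hb : b ∈ kGrp M z) : a * b = b * a := by
  obtain ⟨s, hs⟩ := exists_sw h
  have h4 : s * (a * b) * s⁻¹ = (s * a * s⁻¹) * (s * b * s⁻¹) := by group
  rw [sw_inverts h hs (mul_mem ha hb), sw_inverts h hs ha, sw_inverts h hs hb, mul_inv_rev] at h4
  simpa using congrArg (·⁻¹) h4

/-- The stabiliser of the two points `1`, `s` is `K`. -/
theorem two_point {s n : G} (hs : s ∈ Sw M z) (hn : n ∈ normalizer (M : Set G))
    (hns : s * n * s⁻¹ ∈ normalizer (M : Set G)) : n ∈ kGrp M z := by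
  obtain ⟨m, hm, k, hk, rfl⟩ := exists_decomp h hn
  suffices m = 1 by rwa [this, one_mul]
  have hy : s * m * s⁻¹ ∈ normalizer (M : Set G) := by
    have : s * m * s⁻¹ = (s * (m * k) * s⁻¹) * (s * k * s⁻¹)⁻¹ := by group
    rw [this, sw_inverts h hs hk, inv_inv]
    exact mul_mem hns hk.1
  obtain ⟨m', hm', k', hk', e⟩ := exists_decomp h hy
  have hzy : z * (s * m * s⁻¹) * z⁻¹ = (s * m * s⁻¹)⁻¹ := by
    calc z * (s * m * s⁻¹) * z⁻¹ = (z * s) * m * (z * s)⁻¹ := by group
      _ = s * (z * m * z⁻¹) * s⁻¹ := by rw [← hs.1]; group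
      _ = (s * m * s⁻¹)⁻¹ := by rw [inverts h hm]; group
  rw [← e] at hzy
  have h1 : z * k' * z⁻¹ = k' := by rw [← (mem_kGrp.mp hk').2, mul_inv_cancel_right]
  have h2 : m'⁻¹ * k' = (k'⁻¹ * m'⁻¹ * k') * k'⁻¹ := by
    calc m'⁻¹ * k' = (z * m' * z⁻¹) * (z * k' * z⁻¹) := by rw [inverts h hm', h1]
      _ = z * (m' * k') * z⁻¹ := by group
      _ = (m' * k')⁻¹ := hzy
      _ = _ := by group
  obtain ⟨-, h3⟩ := decomp_unique h (inv_mem hm')
    (by simpa using conj_mem h (inv_mem hk'.1) (inv_mem hm')) hk' (inv_mem hk') h2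
  by_contra hm1
  have hord : Odd (orderOf (m' * k')) := by rw [e, orderOf_conj_eq']; exact odd_orderOf h hm
  rcases eq_or_ne k' 1 with rfl | hk1
  · refine hs.2 (mem_N_of_conj h hm hm1 ?_)
    rw [← e, mul_one]; exact hm'
  · have hk2 : k' * k' = 1 := by nth_rewrite 2 [h3]; exact mul_inv_cancel k'
    rw [kGrp_invol h hk' (orderOf_two hk2 hk1), orderOf_mul_z h hm'] at hord
    exact absurd hord (by decide)

/-- Every element outside `N(M)` is `u * s * v`. -/
theorem exists_usv {g : G} (hg : g ∉ normalizer (M : Set G)) :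
    ∃ u ∈ M, ∃ s ∈ Sw M z, ∃ v ∈ M, g = u * s * v := by
  obtain ⟨t, m, ht, htN, hm, rfl⟩ := exists_invol_mul h hg
  obtain ⟨x, hx, hc⟩ := exists_commuting h ht htN
  obtain ⟨u, hu, hux⟩ : ∃ u ∈ M, u * u = x := by
    obtain ⟨c, hc'⟩ := odd_orderOf h hx
    exact ⟨x ^ (c + 1), pow_mem hx _, by rw [← pow_add, show c + 1 + (c + 1) = orderOf x + 1 by omega,
      pow_succ, pow_orderOf_eq_one, one_mul]⟩
  have hz' : x * z = u * z * u⁻¹ := by
    rw [← hux]
    have := inverts h (inv_mem hu)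
    rw [inv_inv] at this
    calc u * u * z = u * (z * u⁻¹ * z⁻¹) * z := by rw [this]
      _ = u * z * u⁻¹ := by group
  refine ⟨u, hu, u⁻¹ * t * u, ⟨?_, fun hh => htN ?_⟩, u⁻¹ * m, mul_mem (inv_mem hu) hm, by group⟩
  · rw [hz'] at hc
    calc u⁻¹ * t * u * z = u⁻¹ * (t * (u * z * u⁻¹)) * u := by group
      _ = u⁻¹ * (u * z * u⁻¹ * t) * u := by rw [hc]
      _ = z * (u⁻¹ * t * u) := by group
  · have := mul_mem (mul_mem (le_normalizer hu) hh) (inv_mem (le_normalizer hu))
    simpa [mul_assoc] using this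

theorem usv_unique {u u' v v' s s' : G} (hu : u ∈ M) (hu' : u' ∈ M) (hv : v ∈ M) (hv' : v' ∈ M)
    (hs : s ∈ Sw M z) (hs' : s' ∈ Sw M z) (e : u * s * v = u' * s' * v') : u = u' ∧ s = s' ∧ v = v' := by
  set w := u'⁻¹ * u with hw
  have hwM : w ∈ M := mul_mem (inv_mem hu') hu
  have e1 : (w * s * w⁻¹) * w = s' * (v' * v⁻¹) := by
    calc (w * s * w⁻¹) * w = u'⁻¹ * (u * s * v) * v⁻¹ := by rw [hw]; group
      _ = _ := by rw [e]; group
  obtain ⟨e2, e3⟩ := invol_mul_unique h (by rw [orderOf_conj_eq', sw_invol h hs])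
    (fun hh => hs.2 (by
      have := mul_mem (mul_mem (inv_mem (le_normalizer hwM)) hh) (le_normalizer hwM)
      simpa [mul_assoc] using this))
    (sw_invol h hs') hwM (mul_mem hv' (inv_mem hv)) e1
  -- `s'` centralises both `z` and `w z w⁻¹`, hence their quotient `w ^ 2`
  have hw1 : w = 1 := by
    refine eq_one_of_sq h hwM (by_contra fun hne => ?_)
    have h4 : s' * (w * z * w⁻¹) = w * z * w⁻¹ * s' := by
      rw [← e2]
      calc w * s * w⁻¹ * (w * z * w⁻¹) = w * (s * z) * w⁻¹ := by group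
        _ = w * (z * s) * w⁻¹ := by rw [hs.1]
        _ = _ := by group
    have h5 : w * z * w⁻¹ * z = w * w := by
      have := inverts' h (inv_mem hwM)
      rw [inv_inv] at this
      calc w * z * w⁻¹ * z = w * (z * w⁻¹ * z) := by group
        _ = w * w := by rw [this]
    refine not_commute_invol h (mul_mem hwM hwM) hne (sw_invol h hs') ?_
    rw [← h5]
    calc s' * (w * z * w⁻¹ * z) = (s' * (w * z * w⁻¹)) * z := by group
      _ = w * z * w⁻¹ * (s' * z) := by rw [h4]; group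
      _ = _ := by rw [hs'.1]; group
  rw [hw1] at e2 e3
  refine ⟨(inv_mul_eq_one.mp (hw ▸ hw1)).symm, by simpa using e2, ?_⟩
  exact (mul_inv_eq_one.mp e3.symm).symm

/-- `C(z)` has `|K|` elements inside `N(M)`. -/
theorem card_sw_add : Nat.card (Sw M z) + Nat.card ↥(kGrp M z) = Nat.card ↥(centralizer ({z} : Set G)) := by
  classical
  rw [← Nat.card_sum]
  refine Nat.card_congr ?_
  refine (Equiv.sumComm _ _).trans (Equiv.trans ?_ (Equiv.sumCompl fun c : ↥(centralizer ({z} : Set G)) =>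
    (c : G) ∈ normalizer (M : Set G)))
  refine Equiv.sumCongr ?_ ?_
  · exact ⟨fun k => ⟨⟨k, k.2.2⟩, k.2.1⟩, fun c => ⟨c.1, c.2, c.1.2⟩, fun _ => rfl, fun _ => rfl⟩
  · exact ⟨fun s => ⟨⟨s, mem_centralizer_singleton_iff.mpr s.2.1⟩, s.2.2⟩,
      fun c => ⟨c.1, mem_centralizer_singleton_iff.mp c.1.2, c.2⟩, fun _ => rfl, fun _ => rfl⟩

theorem card_G : Nat.card G =
    Nat.card M * Nat.card ↥(kGrp M z) + Nat.card M * Nat.card (Sw M z) * Nat.card M := by
  classical
  rw [← card_N h, ← Nat.card_prod, ← Nat.card_prod, ← Nat.card_sum]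
  refine (Nat.card_congr (Equiv.ofBijective
    (Sum.elim (fun n : ↥(normalizer (M : Set G)) => (n : G))
      (fun p : (M × Sw M z) × M => (p.1.1 : G) * p.1.2 * p.2)) ⟨?_, fun g => ?_⟩)).symm
  · refine Subtype.val_injective.sumElim (fun p q e => ?_) fun n p e => p.1.2.2.2 ?_
    · obtain ⟨e1, e2, e3⟩ := usv_unique h p.1.1.2 q.1.1.2 p.2.2 q.2.2 p.1.2.2 q.1.2.2 e
      exact Prod.ext (Prod.ext (Subtype.ext e1) (Subtype.ext e2)) (Subtype.ext e3)
    · have := mul_mem (mul_mem (inv_mem (le_normalizer p.1.1.2)) n.2) (inv_mem (le_normalizer p.2.2))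
      rw [e] at this
      simpa [mul_assoc] using this
  · by_cases hg : g ∈ normalizer (M : Set G)
    · exact ⟨Sum.inl ⟨g, hg⟩, rfl⟩
    · obtain ⟨u, hu, s, hs, v, hv, e⟩ := exists_usv h hg
      exact ⟨Sum.inr ((⟨u, hu⟩, ⟨s, hs⟩), ⟨v, hv⟩), e.symm⟩

theorem card_invol : Nat.card {g : G // orderOf g = 2} = Nat.card M + Nat.card M * Nat.card (Sw M z) := by
  classical
  rw [← Nat.card_prod, ← Nat.card_sum]
  refine (Nat.card_congr (Equiv.ofBijective
    (Sum.elim (fun m : M => (⟨(m : G) * z, orderOf_mul_z h m.2⟩ : {g : G // orderOf g = 2}))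
      (fun p : M × Sw M z => ⟨(p.1 : G) * p.2 * (p.1 : G)⁻¹, by rw [orderOf_conj_eq', sw_invol h p.2.2]⟩))
    ⟨?_, fun t => ?_⟩)).symm
  · refine Function.Injective.sumElim (fun a b e => Subtype.ext (mul_right_cancel (congrArg Subtype.val e)))
      (fun p q e => ?_) fun m p e => p.2.2.2 ?_
    · obtain ⟨e1, e2, -⟩ := usv_unique h p.1.2 q.1.2 (inv_mem p.1.2) (inv_mem q.1.2) p.2.2 q.2.2
        (congrArg Subtype.val e)
      exact Prod.ext (Subtype.ext e1) (Subtype.ext e2)
    · have e' : (m : G) * z = (p.1 : G) * p.2 * (p.1 : G)⁻¹ := congrArg Subtype.val e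
      have := mul_mem (mul_mem (inv_mem (le_normalizer p.1.2)) (mul_mem (le_normalizer m.2) h.mem))
        (le_normalizer p.1.2)
      rw [e'] at this
      simpa [mul_assoc] using this
  · by_cases ht : t.1 ∈ normalizer (M : Set G)
    · obtain ⟨m, hm, e⟩ := invol_N h t.2 ht
      exact ⟨Sum.inl ⟨m, hm⟩, Subtype.ext e.symm⟩
    · obtain ⟨u, hu, s, hs, v, hv, e⟩ := exists_usv h ht
      have e1 : (u * s * u⁻¹) * (u * v) = t.1 * 1 := by rw [mul_one, e]; group
      obtain ⟨e2, -⟩ := invol_mul_unique h (by rw [orderOf_conj_eq', sw_invol h hs])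
        (fun hh => hs.2 (by
          have := mul_mem (mul_mem (inv_mem (le_normalizer hu)) hh) (le_normalizer hu)
          simpa [mul_assoc] using this))
        t.2 (mul_mem hu hv) (one_mem M) e1
      exact ⟨Sum.inr (⟨u, hu⟩, ⟨s, hs⟩), Subtype.ext e2⟩

/-- `K` acts fixed-point-freely on `M`. -/
theorem kGrp_fpf {k x : G} (hk : k ∈ kGrp M z) (hk1 : k ≠ 1) (hx : x ∈ M) (hc : k * x = x * k) : x = 1 := by
  by_contra hx1
  rcases eq_or_ne (k * k) 1 with h2 | h2
  · rw [kGrp_invol h hk (orderOf_two h2 hk1)] at hc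
    exact not_commute_invol h hx hx1 h.invol hc
  obtain ⟨s, hs⟩ := exists_sw h
  have hsi := inv_of_orderOf (sw_invol h hs)
  have hkc : k * (s * x * s⁻¹) = (s * x * s⁻¹) * k := by
    have hsk := sw_inverts h hs (inv_mem hk)
    rw [inv_inv] at hsk
    have hc' : k⁻¹ * x = x * k⁻¹ := (Commute.inv_left (show Commute k x from hc)).eq
    calc k * (s * x * s⁻¹) = (s * k⁻¹ * s⁻¹) * (s * x * s⁻¹) := by rw [hsk]
      _ = s * (k⁻¹ * x) * s⁻¹ := by group
      _ = s * (x * k⁻¹) * s⁻¹ := by rw [hc']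
      _ = (s * x * s⁻¹) * (s * k⁻¹ * s⁻¹) := by group
      _ = _ := by rw [hsk]
  set g := s * x * s⁻¹ with hg
  have hgN : g ∉ normalizer (M : Set G) := fun hh =>
    hx1 (kGrp_inf h (two_point h hs (le_normalizer hx) hh) hx)
  obtain ⟨u, hu, s', hs', v, hv, e⟩ := exists_usv h hgN
  have hkz : k * z * k⁻¹ = z := by rw [(mem_kGrp.mp hk).2, mul_inv_cancel_right]
  have e' : u * s' * v = (k * u * k⁻¹) * (k * s' * k⁻¹) * (k * v * k⁻¹) := by
    rw [← e]
    calc g = k * g * k⁻¹ := by rw [hkc, mul_inv_cancel_right]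
      _ = _ := by rw [e]; group
  obtain ⟨-, e2, -⟩ := usv_unique h hu (conj_mem h hk.1 hu) hv (conj_mem h hk.1 hv) hs'
    ⟨by
      calc k * s' * k⁻¹ * z = k * s' * k⁻¹ * (k * z * k⁻¹) := by rw [hkz]
        _ = k * (s' * z) * k⁻¹ := by group
        _ = k * (z * s') * k⁻¹ := by rw [hs'.1]
        _ = (k * z * k⁻¹) * (k * s' * k⁻¹) := by group
        _ = _ := by rw [hkz],
      fun hh => hs'.2 (by
        have := mul_mem (mul_mem ((normalizer (M : Set G)).inv_mem hk.1) hh) hk.1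
        simpa [mul_assoc] using this)⟩ e'
  refine h2 ?_
  have h6 := sw_inverts h hs' hk
  have h7 : k * s' = s' * k := by
    nth_rewrite 2 [e2]; group
  have h8 : k⁻¹ = k := by rw [← h6, ← h7, mul_inv_cancel_right]
  nth_rewrite 1 [← h8]
  exact inv_mul_cancel k

theorem cent_M {x g : G} (hx : x ∈ M) (hx1 : x ≠ 1) (hg : g * x = x * g) : g ∈ M := by
  have hgN : g ∈ normalizer (M : Set G) :=
    mem_N_of_conj h hx hx1 (by rw [hg, mul_inv_cancel_right]; exact hx)
  obtain ⟨m, hm, k, hk, rfl⟩ := exists_decomp h hgN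
  rcases eq_or_ne k 1 with rfl | hk1
  · rwa [mul_one]
  refine absurd (kGrp_fpf h hk hk1 hx (mul_left_cancel (a := m) ?_)) hx1
  calc m * (k * x) = m * k * x := by group
    _ = x * (m * k) := hg
    _ = (x * m) * k := by group
    _ = m * (x * k) := by rw [comm h hx hm]; group

/-- The conjugates of `z` are among the involutions. -/
theorem index_cent_le : (centralizer ({z} : Set G)).index ≤ Nat.card {g : G // orderOf g = 2} := by
  refine Nat.card_le_card_of_injective (fun c : G ⧸ centralizer ({z} : Set G) =>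
    (⟨c.out * z * c.out⁻¹, by rw [orderOf_conj_eq', h.invol]⟩ : {g : G // orderOf g = 2})) fun a b e => ?_
  have e' : a.out * z * a.out⁻¹ = b.out * z * b.out⁻¹ := congrArg Subtype.val e
  rw [← a.out_eq', ← b.out_eq', QuotientGroup.eq, mem_centralizer_singleton_iff]
  calc a.out⁻¹ * b.out * z = a.out⁻¹ * (b.out * z * b.out⁻¹) * b.out := by group
    _ = z * (a.out⁻¹ * b.out) := by rw [← e']; group

theorem isConj_of_index_eq (he : (centralizer ({z} : Set G)).index = Nat.card {g : G // orderOf g = 2})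
    {t : G} (ht : orderOf t = 2) : ∃ c : G, t = c * z * c⁻¹ := by
  have hinj : Function.Injective (fun c : G ⧸ centralizer ({z} : Set G) =>
      (⟨c.out * z * c.out⁻¹, by rw [orderOf_conj_eq', h.invol]⟩ : {g : G // orderOf g = 2})) := fun a b e => by
    have e' : a.out * z * a.out⁻¹ = b.out * z * b.out⁻¹ := congrArg Subtype.val e
    rw [← a.out_eq', ← b.out_eq', QuotientGroup.eq, mem_centralizer_singleton_iff]
    calc a.out⁻¹ * b.out * z = a.out⁻¹ * (b.out * z * b.out⁻¹) * b.out := by group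
      _ = z * (a.out⁻¹ * b.out) := by rw [← e']; group
  obtain ⟨c, hc⟩ := ((Nat.bijective_iff_injective_and_card _).mpr ⟨hinj, he⟩).2 ⟨t, ht⟩
  exact ⟨c.out, (congrArg Subtype.val hc).symm⟩

end Cfsg.Lib.TICount
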