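import Cfsg.Agent.Lib.TICount.Basic
import Cfsg.Agent.Lib.Perm.SharpThreeComm
import Cfsg.Agent.Lib.Perm.ZasAbelian.Regular
import Cfsg.Agent.Lib.Dickson.Overgroups
import Cfsg.Agent.S0731
import Cfsg.Agent.S0738
import Cfsg.Prelude.Def_Transfer

/-!
# The case `|K| > 2`: a Zassenhaus group on the cosets of `N(M)`
-/

set_option autoImplicit false
set_option linter.style.haveILetI false
set_option linter.unusedSectionVars false

namespace Cfsg.Lib.TICount

open Subgroup

universe u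

variable {G : Type u} [Group G] [Finite G] {M : Subgroup G} {z : G} (h : Setup M z)
  (hk : 2 < Nat.card ↥(kGrp M z))
include h hk

theorem sw_mul_mem {s t : G} (hs : s ∈ Sw M z) (ht : t ∈ Sw M z) : s * t ∈ kGrp M z := by
  by_contra hst
  have hst' : s * t ∈ Sw M z := by
    have hc : s * t * z = z * (s * t) := by rw [mul_assoc, ht.1, ← mul_assoc, hs.1, mul_assoc]
    exact ⟨hc, fun hh => hst (mem_kGrp.mpr ⟨hh, hc⟩)⟩
  have h2 : ∀ k : ↥(kGrp M z), (k : G) = 1 ∨ (k : G) = z := fun k => by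
    have e1 : (s * t) * (k : G) * (s * t)⁻¹ = (k : G) := by
      calc (s * t) * (k : G) * (s * t)⁻¹ = s * (t * (k : G) * t⁻¹) * s⁻¹ := by group
        _ = _ := by rw [sw_inverts h ht k.2, sw_inverts h hs (inv_mem k.2), inv_inv]
    rw [sw_inverts h hst' k.2] at e1
    have hkk : (k : G) * k = 1 := by nth_rewrite 1 [← e1]; exact inv_mul_cancel _
    exact (eq_or_ne (k : G) 1).imp_right fun h1 => kGrp_invol h k.2 (orderOf_two hkk h1)
  classical
  have : Nat.card ↥(kGrp M z) ≤ ({1, z} : Set G).ncard := by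
    rw [← Nat.card_coe_set_eq]
    exact Nat.card_le_card_of_injective (fun k => (⟨k, h2 k⟩ : ({1, z} : Set G))) fun a b e => by
      simpa using congrArg Subtype.val e
  have := Set.ncard_insert_le (1 : G) ({z} : Set G)
  rw [Set.ncard_singleton] at this
  omega

theorem card_sw_large : Nat.card (Sw M z) = Nat.card ↥(kGrp M z) := by
  obtain ⟨s₀, hs₀⟩ := exists_sw h
  refine (Nat.card_congr (Equiv.ofBijective (fun k : ↥(kGrp M z) => (⟨s₀ * k, sw_mul_kGrp h hs₀ k.2⟩ : Sw M z))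
    ⟨fun a b e => Subtype.ext (mul_left_cancel (congrArg Subtype.val e)), fun s => ?_⟩)).symm
  refine ⟨⟨s₀⁻¹ * s, ?_⟩, Subtype.ext (mul_inv_cancel_left _ _)⟩
  rw [inv_of_orderOf (sw_invol h hs₀)]
  exact sw_mul_mem h hk hs₀ s.2

omit hk in
theorem dvd_pred : Nat.card ↥(kGrp M z) ∣ Nat.card M - 1 := by
  classical
  let X := {x : M // x ≠ 1}
  have hX : Nat.card X = Nat.card M - 1 := by
    haveI := Fintype.ofFinite M
    rw [Nat.card_eq_fintype_card, Nat.card_eq_fintype_card, Fintype.card_subtype_compl,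
      Fintype.card_subtype_eq]
  rw [← hX]
  letI : MulAction ↥(kGrp M z) X :=
    { smul := fun k x => ⟨⟨(k : G) * (x.1 : G) * (k : G)⁻¹, conj_mem h k.2.1 x.1.2⟩, fun e => x.2 (by
        have e' : (k : G) * (x.1 : G) * (k : G)⁻¹ = 1 := congrArg Subtype.val e
        exact Subtype.ext (mul_eq_left.mp (mul_inv_eq_one.mp e')))⟩
      one_smul := fun x => Subtype.ext (Subtype.ext (show (1 : G) * _ * (1 : G)⁻¹ = _ by simp))
      mul_smul := fun a b x => Subtype.ext (Subtype.ext (show (a * b : G) * _ * (a * b : G)⁻¹ = (a : G) *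
        ((b : G) * _ * (b : G)⁻¹) * (a : G)⁻¹ by group)) }
  refine (Nat.card_congr (MulAction.selfEquivSigmaOrbitsQuotientStabilizer ↥(kGrp M z) X)).symm ▸ ?_
  haveI := Fintype.ofFinite (MulAction.orbitRel.Quotient ↥(kGrp M z) X)
  rw [Nat.card_sigma]
  refine Finset.dvd_sum fun q _ => dvd_of_eq (Eq.symm ?_)
  rw [show MulAction.stabilizer ↥(kGrp M z) (Quotient.out q) = ⊥ from eq_bot_iff.mpr fun k hkq => mem_bot.mpr
    (by_contra fun hk1 => (Quotient.out q).2 (Subtype.ext (kGrp_fpf h k.2 (fun e => hk1 (Subtype.ext e))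
      (Quotient.out q).1.2 (mul_inv_eq_iff_eq_mul.mp (congrArg (fun y : X => ((y : M) : G)) hkq)))))]
  exact Nat.card_congr QuotientGroup.quotientBot.toEquiv

/-- `|M| = |K| + 1` or `|M| = 2|K| + 1`. -/
theorem two_cases : Nat.card M = Nat.card ↥(kGrp M z) + 1 ∨ Nat.card M = 2 * Nat.card ↥(kGrp M z) + 1 := by
  obtain ⟨j, hj⟩ := dvd_pred h
  have hM : 1 < Nat.card M := (Subgroup.one_lt_card_iff_ne_bot _).mpr h.ne_bot
  have h1 := (centralizer ({z} : Set G)).card_mul_index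
  have h2 := index_cent_le h
  have h3 := card_sw_add h
  rw [card_sw_large h hk] at h3
  rw [card_invol h, card_sw_large h hk] at h2
  rw [card_G h, card_sw_large h hk, ← h3] at h1
  set k := Nat.card ↥(kGrp M z)
  set m := Nat.card M
  set i := (centralizer ({z} : Set G)).index
  have h4 : m * k + m * k * m ≤ (k + k) * (m + m * k) := h1 ▸ Nat.mul_le_mul_left _ h2
  have h5 : m ≤ 2 * k + 1 := by nlinarith [Nat.mul_pos (show 0 < m by omega) (show 0 < k by omega)]
  have hjm : m = k * j + 1 := by omega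
  have h6 : j ≤ 2 := Nat.le_of_mul_le_mul_left (show k * j ≤ k * 2 by omega) (show 0 < k by omega)
  interval_cases j <;> omega

local notation "Ω" => G ⧸ Subgroup.normalizer (M : Set G)

omit hk in
theorem smul_one_eq {g : G} : g • (QuotientGroup.mk 1 : Ω) = QuotientGroup.mk 1 ↔ g ∈ normalizer (M : Set G) := by
  rw [MulAction.Quotient.smul_mk, QuotientGroup.eq, smul_eq_mul, mul_one, mul_one, inv_mem_iff]

omit hk in
theorem smul_sw_eq {s g : G} (hs : s ∈ Sw M z) (h1 : g • (QuotientGroup.mk 1 : Ω) = QuotientGroup.mk 1)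
    (h2 : g • (QuotientGroup.mk s : Ω) = QuotientGroup.mk s) : g ∈ kGrp M z := by
  rw [smul_one_eq h] at h1
  rw [MulAction.Quotient.smul_mk, QuotientGroup.eq, smul_eq_mul, mul_inv_rev] at h2
  refine inv_mem_iff.mp (two_point h hs (inv_mem h1) ?_)
  have e := inv_of_orderOf (sw_invol h hs)
  rw [e] at h2 ⊢
  exact h2

theorem fix_sw {s k : G} (hs : s ∈ Sw M z) (hkk : k ∈ kGrp M z) :
    k • (QuotientGroup.mk 1 : Ω) = QuotientGroup.mk 1 ∧ k • (QuotientGroup.mk s : Ω) = QuotientGroup.mk s := by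
  refine ⟨(smul_one_eq h).mpr hkk.1, ?_⟩
  rw [MulAction.Quotient.smul_mk, QuotientGroup.eq, smul_eq_mul,
    show (k * s)⁻¹ * s = (s⁻¹ * k⁻¹ * s) by group]
  have := sw_inverts h hs (inv_mem hkk)
  rw [inv_inv] at this
  have e : s⁻¹ * k⁻¹ * s = k := by
    rw [inv_of_orderOf (sw_invol h hs)] at this ⊢
    exact this
  rw [e]; exact hkk.1

theorem sw_smul {s : G} (hs : s ∈ Sw M z) :
    s • (QuotientGroup.mk 1 : Ω) = QuotientGroup.mk s ∧ s • (QuotientGroup.mk s : Ω) = QuotientGroup.mk 1 :=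
  ⟨by rw [MulAction.Quotient.smul_mk, smul_eq_mul, mul_one],
    by rw [MulAction.Quotient.smul_mk, smul_eq_mul, mul_self_of_orderOf (sw_invol h hs)]⟩

theorem sw_ne {s : G} (hs : s ∈ Sw M z) : (QuotientGroup.mk s : Ω) ≠ QuotientGroup.mk 1 := fun e =>
  hs.2 (by rw [QuotientGroup.eq, mul_one] at e; exact inv_mem_iff.mp e)

/-- `M` is regular on the points other than `1`. -/
theorem exists_unique_M {s : G} (hs : s ∈ Sw M z) (c : Ω) (hc : c ≠ QuotientGroup.mk 1) :
    ∃ u ∈ M, u • (QuotientGroup.mk s : Ω) = c := by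
  induction c using QuotientGroup.induction_on with
  | _ g =>
  have hg : g ∉ normalizer (M : Set G) := fun hg => hc (by rw [QuotientGroup.eq, mul_one]; exact inv_mem hg)
  obtain ⟨u, hu, t, ht, v, hv, rfl⟩ := exists_usv h hg
  refine ⟨u, hu, ?_⟩
  rw [MulAction.Quotient.smul_mk, QuotientGroup.eq, smul_eq_mul,
    show (u * s)⁻¹ * (u * t * v) = s⁻¹ * t * v by group, inv_of_orderOf (sw_invol h hs)]
  exact mul_mem (sw_mul_mem h hk hs ht).1 (le_normalizer hv)

theorem M_free {s u u' : G} (hs : s ∈ Sw M z) (hu : u ∈ M) (hu' : u' ∈ M)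
    (e : u • (QuotientGroup.mk s : Ω) = u' • (QuotientGroup.mk s : Ω)) : u = u' := by
  have h2 : (u'⁻¹ * u) • (QuotientGroup.mk s : Ω) = QuotientGroup.mk s := by
    rw [mul_smul, e, inv_smul_smul]
  have hm : u'⁻¹ * u ∈ M := mul_mem (inv_mem hu') hu
  exact (inv_mul_eq_one.mp (kGrp_inf h (smul_sw_eq h hs ((smul_one_eq h).mpr (le_normalizer hm)) h2) hm)).symm

theorem card_points : Nat.card Ω = Nat.card M + 1 := by
  show (normalizer (M : Set G)).index = _
  have h1 := (normalizer (M : Set G)).card_mul_index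
  rw [card_N h, card_G h, card_sw_large h hk] at h1
  refine Nat.eq_of_mul_eq_mul_left (show 0 < Nat.card M * Nat.card ↥(kGrp M z) from
    Nat.mul_pos Nat.card_pos Nat.card_pos) (h1.trans ?_)
  ring

/-- Any two points can be moved to `1` and `s`. -/
theorem normalise {s : G} (hs : s ∈ Sw M z) {a b : Ω} (hab : a ≠ b) :
    ∃ g : G, g • (QuotientGroup.mk 1 : Ω) = a ∧ g • (QuotientGroup.mk s : Ω) = b := by
  induction a using QuotientGroup.induction_on with
  | _ x =>
  obtain ⟨u, hu, e⟩ := exists_unique_M h hk hs (x⁻¹ • b) fun e => hab (by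
    rw [inv_smul_eq_iff] at e
    rw [e, MulAction.Quotient.smul_mk, smul_eq_mul, mul_one])
  refine ⟨x * u, ?_, by rw [mul_smul, e, smul_inv_smul]⟩
  rw [mul_smul, (smul_one_eq h).mpr (le_normalizer hu), MulAction.Quotient.smul_mk, smul_eq_mul, mul_one]

theorem two_trans : MulAction.IsMultiplyPretransitive G Ω 2 := by
  obtain ⟨s, hs⟩ := exists_sw h
  refine MulAction.is_two_pretransitive_iff.mpr fun {a b c d} hab hcd => ?_
  obtain ⟨g, g1, g2⟩ := normalise h hk hs hab
  obtain ⟨g', g1', g2'⟩ := normalise h hk hs hcd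
  exact ⟨g' * g⁻¹, by rw [mul_smul, ← g1, inv_smul_smul, g1'], by rw [mul_smul, ← g2, inv_smul_smul, g2']⟩

theorem conj_fix {g x : G} {p q : Ω} (e : g • p = q) (hx : x • q = q) : (g⁻¹ * x * g) • p = p := by
  rw [mul_smul, mul_smul, e, hx, ← e, inv_smul_smul]

theorem sharp (g : G) (a b c : Ω) (hab : a ≠ b) (hac : a ≠ c) (hbc : b ≠ c) (ha : g • a = a) (hb : g • b = b)
    (hc : g • c = c) : g = 1 := by
  obtain ⟨s, hs⟩ := exists_sw h
  obtain ⟨x, x1, x2⟩ := normalise h hk hs hab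
  obtain ⟨u, hu, x3⟩ := exists_unique_M h hk hs (x⁻¹ • c) fun e => hac (by
    rw [inv_smul_eq_iff] at e; rw [e, x1])
  have hu1 : u ≠ 1 := fun e => hbc (by rw [← x2]; rw [e, one_smul] at x3; rw [x3, smul_inv_smul])
  set k := x⁻¹ * g * x with hkd
  have hk1 : k ∈ kGrp M z := smul_sw_eq h hs (conj_fix h hk x1 ha) (conj_fix h hk x2 hb)
  have hk3 : k • (u • (QuotientGroup.mk s : Ω)) = u • QuotientGroup.mk s := by
    rw [x3]
    exact conj_fix h hk (smul_inv_smul x c) hc
  have h4 : k * u * k⁻¹ = u := by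
    refine M_free h hk hs (conj_mem h hk1.1 hu) hu ?_
    have e : k⁻¹ • (QuotientGroup.mk s : Ω) = QuotientGroup.mk s := (fix_sw h hk hs (inv_mem hk1)).2
    rw [mul_smul, mul_smul, e, hk3]
  by_contra hg
  refine hu1 (kGrp_fpf h hk1 (fun e => hg ?_) hu (mul_inv_eq_iff_eq_mul.mp h4))
  have : x * k * x⁻¹ = 1 := by rw [e, mul_one, mul_inv_cancel]
  rw [hkd] at this
  simpa [mul_assoc] using this

theorem faithful : FaithfulSMul G Ω := by
  obtain ⟨s, hs⟩ := exists_sw h
  obtain ⟨u, hu, hu1⟩ := (Subgroup.bot_or_exists_ne_one M).resolve_left h.ne_bot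
  refine ⟨fun {g g'} e => inv_mul_eq_one.mp (sharp h hk (g⁻¹ * g') (QuotientGroup.mk 1) (QuotientGroup.mk s)
    (u • QuotientGroup.mk s) (sw_ne h hk hs).symm (fun e' => sw_ne h hk hs ?_)
    (fun e' => hu1 (M_free h hk hs hu (one_mem M) (by rw [one_smul, ← e'])))
    (by rw [mul_smul, ← e, inv_smul_smul]) (by rw [mul_smul, ← e, inv_smul_smul])
    (by rw [mul_smul, ← e, inv_smul_smul]))⟩
  rw [← (smul_one_eq h).mpr (le_normalizer hu)] at e'
  exact (smul_left_cancel u e').symm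

theorem psl_card_eq {q m : ℕ} (e : q * (q ^ 2 - 1) = m * (m ^ 2 - 1)) (hm : 1 < m) : q = m := by
  have hmono : ∀ a b : ℕ, 1 < b → a < b → a * (a ^ 2 - 1) < b * (b ^ 2 - 1) := fun a b hb hab => by
    have h1 : a ^ 2 < b ^ 2 := Nat.pow_lt_pow_left hab (by norm_num)
    have h2 : 1 < b ^ 2 := Nat.one_lt_pow (by norm_num) hb
    exact lt_of_le_of_lt (Nat.mul_le_mul_right _ hab.le) (Nat.mul_lt_mul_of_pos_left (by omega) (by omega))
  rcases lt_trichotomy q m with hlt | heq | hgt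
  · exact absurd e (hmono q m hm hlt).ne
  · exact heq
  · exact absurd e (hmono m q (hm.trans hgt) hgt).ne'

/-- The case `|M| = 2|K| + 1`. -/
theorem psl_case (hM : Nat.card M = 2 * Nat.card ↥(kGrp M z) + 1) :
    ∃ (F : Type) (_ : Field F) (_ : Fintype F) (p : ℕ) (_ : Fact p.Prime) (_ : CharP F p),
      Fintype.card F = Nat.card M ∧ Cfsg.IsElementaryAbelian p M ∧ Fintype.card F % 4 = 1 ∧
      Nonempty (G ≃* Matrix.ProjectiveSpecialLinearGroup (Fin 2) F) := by
  classical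
  obtain ⟨s, hs⟩ := exists_sw h
  haveI := Fintype.ofFinite Ω
  have h2 := two_trans h hk
  have hcard : Fintype.card Ω = Nat.card M + 1 := by rw [← Nat.card_eq_fintype_card]; exact card_points h hk
  have hkev : 2 ∣ Nat.card ↥(kGrp M z) := by
    have := (kGrp M z).orderOf_dvd_natCard (z_mem_kGrp h)
    rwa [h.invol] at this
  have hZ : Cfsg.IsZassenhausGroup G Ω := by
    refine ⟨faithful h hk, h2, fun g a b c hab hbc hac => sharp h hk g a b c hab hac hbc,
      ⟨z, ne_one_of_orderOf h.invol, _, _, (sw_ne h hk hs).symm, fix_sw h hk hs (z_mem_kGrp h)⟩, ?_⟩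
    intro R hR hRt
    by_contra hcon
    push Not at hcon
    haveI := hR
    have hRs : ∀ c : Ω, ∀ r ∈ R, r • c = c → r = 1 := fun c r hr e =>
      congrArg Subtype.val ((Subgroup.eq_bot_iff_forall _).mp (hcon c) ⟨r, hr⟩ e)
    have hRc : Nat.card R = Nat.card M + 1 := by
      rw [← card_points h hk]
      exact Nat.card_congr (Equiv.ofBijective (fun r : R => (r : G) • (QuotientGroup.mk 1 : Ω))
        ⟨fun r r' e => Subtype.ext (inv_mul_eq_one.mp (hRs _ _ (R.mul_mem (R.inv_mem r'.2) r.2)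
          (by rw [mul_smul, show (r : G) • (QuotientGroup.mk 1 : Ω) = (r' : G) • QuotientGroup.mk 1 from e,
            inv_smul_smul]))).symm, fun y => hRt.exists_smul_eq _ y⟩)
    obtain ⟨p, hp, -, hP, -⟩ := Cfsg.Lib.Perm.ZasAbelian.regular_isPGroup h2 (QuotientGroup.mk 1) R hRs
      fun e => by rw [e, Subgroup.card_bot] at hRc; have := Nat.card_pos (α := M); omega
    haveI := Fact.mk hp
    obtain ⟨j, hj⟩ := IsPGroup.iff_card.mp hP
    obtain ⟨i, hi⟩ := hkev
    have h2p : 2 ∣ p ^ j := ⟨2 * i + 1, by rw [← hj, hRc, hM, hi]; ring⟩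
    obtain rfl : p = 2 := ((Nat.prime_dvd_prime_iff_eq Nat.prime_two hp).mp (Nat.prime_two.dvd_of_dvd_pow h2p)).symm
    rcases j with _ | _ | j
    · rw [pow_zero] at hj; omega
    · rw [pow_one] at hj; omega
    · have : 4 ∣ 2 ^ (j + 1 + 1) := ⟨2 ^ j, by rw [pow_succ, pow_succ]; ring⟩
      omega
  have hMle : M ≤ MulAction.stabilizer G (QuotientGroup.mk 1 : Ω) := fun u hu =>
    (smul_one_eq h).mpr (le_normalizer hu)
  have hMn : (M.subgroupOf (MulAction.stabilizer G (QuotientGroup.mk 1 : Ω))).Normal :=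
    ⟨fun x hx g => mem_subgroupOf.mpr (conj_mem h ((smul_one_eq h).mp g.2) (mem_subgroupOf.mp hx))⟩
  have hreg : ∀ y w : Ω, y ≠ QuotientGroup.mk 1 → w ≠ QuotientGroup.mk 1 → ∃! u : M, (u : G) • y = w := by
    intro y w hy hw
    obtain ⟨a, ha, rfl⟩ := exists_unique_M h hk hs y hy
    obtain ⟨b, hb, rfl⟩ := exists_unique_M h hk hs w hw
    refine ⟨⟨b * a⁻¹, mul_mem hb (inv_mem ha)⟩,
      show (b * a⁻¹) • (a • (QuotientGroup.mk s : Ω)) = _ by rw [mul_smul, inv_smul_smul],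
      fun c hc => Subtype.ext ?_⟩
    have e : (c : G) * a = b := M_free h hk hs (mul_mem c.2 ha) hb (by rw [mul_smul]; exact hc)
    exact eq_mul_inv_of_mul_eq e
  have hstab : MulAction.stabilizer G (QuotientGroup.mk 1 : Ω) ⊓ MulAction.stabilizer G (QuotientGroup.mk s : Ω) =
      kGrp M z := le_antisymm (fun g hg => smul_sw_eq h hs hg.1 hg.2)
        (fun g hg => ⟨(fix_sw h hk hs hg).1, (fix_sw h hk hs hg).2⟩)
  obtain ⟨hMc, p, f, hp, hpow, hdeg⟩ := Cfsg.Agent.S0738.result hZ (sw_ne h hk hs).symm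
    (by rw [hstab, hcard]; omega) M hMle hMn hreg
  haveI := Fact.mk hp
  rcases Cfsg.Agent.S0731.result hZ (QuotientGroup.mk 1) M hMle hMn hMc hreg with ⟨h3, -⟩ | ⟨F, iF, iFt, hF, ⟨e⟩⟩
  · exfalso
    -- `K` would be transitive on the other points
    let T := {c : Ω // c ≠ QuotientGroup.mk 1 ∧ c ≠ QuotientGroup.mk s}
    have hT : Nat.card T = Nat.card M - 1 := by
      rw [Nat.card_eq_fintype_card, Fintype.card_subtype,
        show (Finset.univ.filter fun c : Ω => c ≠ QuotientGroup.mk 1 ∧ c ≠ QuotientGroup.mk s) =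
          ((Finset.univ.erase (QuotientGroup.mk 1 : Ω)).erase (QuotientGroup.mk s)) from by ext c; simp [and_comm],
        Finset.card_erase_of_mem (by simp [sw_ne h hk hs]), Finset.card_erase_of_mem (Finset.mem_univ _),
        Finset.card_univ, hcard]
      omega
    obtain ⟨⟨c, hc1, hc2⟩⟩ : Nonempty T := (Nat.card_pos_iff.mp (by rw [hT]; omega)).1
    have hsurj : Function.Surjective (fun k : ↥(kGrp M z) => (⟨(k : G) • c,
        fun e => hc1 (MulAction.injective (k : G) (e.trans (fix_sw h hk hs k.2).1.symm)),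
        fun e => hc2 (MulAction.injective (k : G) (e.trans (fix_sw h hk hs k.2).2.symm))⟩ : T)) := by
      rintro ⟨d, hd1, hd2⟩
      let x : Fin 3 ↪ Ω := ⟨![QuotientGroup.mk 1, QuotientGroup.mk s, c], by
        have := sw_ne h hk hs
        intro i j hij; fin_cases i <;> fin_cases j <;> first | rfl | (exfalso; simp_all)⟩
      let y : Fin 3 ↪ Ω := ⟨![QuotientGroup.mk 1, QuotientGroup.mk s, d], by
        have := sw_ne h hk hs
        intro i j hij; fin_cases i <;> fin_cases j <;> first | rfl | (exfalso; simp_all)⟩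
      obtain ⟨g, hg⟩ := MulAction.exists_smul_eq G x y
      exact ⟨⟨g, smul_sw_eq h hs (DFunLike.congr_fun hg 0) (DFunLike.congr_fun hg 1)⟩,
        Subtype.ext (DFunLike.congr_fun hg 2)⟩
    have := Nat.card_le_card_of_surjective _ hsurj
    rw [hT] at this
    omega
  · obtain ⟨r, hr⟩ := CharP.exists F
    obtain ⟨n, hrp, hn⟩ := FiniteField.card F r
    have hr2 : r ≠ 2 := fun e => hF (ringChar.eq_iff.mpr (e ▸ hr))
    have hodd : Fintype.card F % 2 = 1 := by
      rw [hn]; exact Nat.odd_iff.mp (hrp.odd_of_ne_two hr2).pow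
    have hq := Cfsg.Lib.Dickson.card_psl_mul (K := F) hodd
    rw [← Nat.card_congr e.toEquiv, card_G h, card_sw_large h hk] at hq
    have hqM : Fintype.card F = Nat.card M := by
      refine psl_card_eq h hk ?_ (by omega)
      rw [← hq, hM]
      set k := Nat.card ↥(kGrp M z)
      rw [show (2 * k + 1) ^ 2 - 1 = 4 * k * (k + 1) by
        rw [show (2 * k + 1) ^ 2 = 4 * k * (k + 1) + 1 by ring, Nat.add_sub_cancel]]
      ring
    have hMp : Nat.card M = p ^ f := by omega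
    refine ⟨F, iF, iFt, p, ⟨hp⟩, charP_of_card_eq_prime_pow (hqM.trans hMp), hqM, ⟨hMc, hpow⟩, ?_, ⟨e⟩⟩
    obtain ⟨i, hi⟩ := hkev
    omega

/-- The case `|M| = |K| + 1`. -/
theorem pgl_case (hM : Nat.card M = Nat.card ↥(kGrp M z) + 1) :
    ∃ (F : Type) (_ : Field F) (_ : Fintype F) (p : ℕ) (_ : Fact p.Prime) (_ : CharP F p),
      Fintype.card F = Nat.card M ∧ Cfsg.IsElementaryAbelian p M ∧
      Nonempty (G ≃* Matrix.ProjGenLinGroup (Fin 2) F) := by
  classical
  obtain ⟨s, hs⟩ := exists_sw h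
  haveI := Fintype.ofFinite Ω
  haveI := faithful h hk
  have hcard : Fintype.card Ω = Nat.card M + 1 := by rw [← Nat.card_eq_fintype_card]; exact card_points h hk
  -- `K` is transitive on the non-identity elements of `M`
  have htr : ∀ x ∈ M, x ≠ 1 → ∀ y ∈ M, y ≠ 1 → ∃ k ∈ kGrp M z, k * x * k⁻¹ = y := by
    intro x hx hx1 y hy hy1
    let X := {w : M // w ≠ 1}
    haveI := Fintype.ofFinite M
    have hX : Nat.card X = Nat.card ↥(kGrp M z) := by
      rw [Nat.card_eq_fintype_card, Fintype.card_subtype_compl, Fintype.card_subtype_eq,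
        ← Nat.card_eq_fintype_card (α := M), hM, Nat.add_sub_cancel]
    have hb : Function.Bijective (fun k : ↥(kGrp M z) => (⟨⟨(k : G) * x * (k : G)⁻¹, conj_mem h k.2.1 hx⟩,
        fun e => hx1 (mul_eq_left.mp (mul_inv_eq_one.mp (congrArg Subtype.val e)))⟩ : X)) := by
      refine (Nat.bijective_iff_injective_and_card _).mpr ⟨fun a b e => ?_, hX.symm⟩
      have e' : (a : G) * x * (a : G)⁻¹ = (b : G) * x * (b : G)⁻¹ := congrArg (fun w : X => ((w : M) : G)) e
      by_contra hne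
      refine hx1 (kGrp_fpf h (mul_mem (inv_mem b.2) a.2) (fun e1 => hne ?_) hx ?_)
      · exact Subtype.ext (inv_mul_eq_one.mp e1).symm
      · calc (b : G)⁻¹ * a * x = (b : G)⁻¹ * ((a : G) * x * (a : G)⁻¹) * a := by group
          _ = x * ((b : G)⁻¹ * a) := by rw [e']; group
    obtain ⟨k, hk'⟩ := hb.2 ⟨⟨y, hy⟩, fun e => hy1 (congrArg Subtype.val e)⟩
    exact ⟨k, k.2, congrArg (fun w : X => ((w : M) : G)) hk'⟩
  have hto : ∀ {a b c : Ω}, a ≠ b → a ≠ c → b ≠ c → ∀ {d : Ω}, d ≠ QuotientGroup.mk 1 →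
      d ≠ QuotientGroup.mk s → ∃ g : G, g • (QuotientGroup.mk 1 : Ω) = a ∧
        g • (QuotientGroup.mk s : Ω) = b ∧ g • d = c := by
    intro a b c hab hac hbc d hd1 hd2
    obtain ⟨g, g1, g2⟩ := normalise h hk hs hab
    obtain ⟨y, hy, g3⟩ := exists_unique_M h hk hs (g⁻¹ • c) fun e => hac (by
      rw [inv_smul_eq_iff] at e; rw [e, g1])
    obtain ⟨x, hx, g4⟩ := exists_unique_M h hk hs d hd1
    have hy1 : y ≠ 1 := fun e => hbc (by rw [← g2]; rw [e, one_smul] at g3; rw [g3, smul_inv_smul])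
    have hx1 : x ≠ 1 := fun e => hd2 (by rw [← g4, e, one_smul])
    obtain ⟨k, hkk, hkx⟩ := htr x hx hx1 y hy hy1
    obtain ⟨k1, k2⟩ := fix_sw h hk hs hkk
    refine ⟨g * k, by rw [mul_smul, k1, g1], by rw [mul_smul, k2, g2], ?_⟩
    rw [← g4, ← mul_smul, show g * k * x = g * ((k * x * k⁻¹) * k) by group, hkx, mul_smul, mul_smul, k2, g3,
      smul_inv_smul]
  let P := MulAction.toPermHom G Ω
  have hP : Function.Injective P := fun a b e => eq_of_smul_eq_smul fun w => Equiv.Perm.ext_iff.mp e w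
  have hact : ∀ (g : G) (w : Ω), (⟨P g, g, rfl⟩ : P.range) • w = g • w := fun _ _ => rfl
  have h3 : MulAction.IsMultiplyPretransitive P.range Ω 3 := by
    refine MulAction.isMultiplyPretransitive_iff.mpr fun {x y} => ?_
    obtain ⟨d, hd1, hd2⟩ : ∃ d : Ω, d ≠ QuotientGroup.mk 1 ∧ d ≠ QuotientGroup.mk s := by
      obtain ⟨u, hu, hu1⟩ := (Subgroup.bot_or_exists_ne_one M).resolve_left h.ne_bot
      refine ⟨u • QuotientGroup.mk s, fun e => ?_, fun e => hu1 (M_free h hk hs hu (one_mem M)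
        (by rw [one_smul, e]))⟩
      rw [← (smul_one_eq h).mpr (le_normalizer hu)] at e
      exact sw_ne h hk hs (smul_left_cancel u e)
    obtain ⟨g, g1, g2, g3⟩ := hto (x.injective.ne (by decide : (0 : Fin 3) ≠ 1))
      (x.injective.ne (by decide : (0 : Fin 3) ≠ 2)) (x.injective.ne (by decide : (1 : Fin 3) ≠ 2)) hd1 hd2
    obtain ⟨g', g1', g2', g3'⟩ := hto (y.injective.ne (by decide : (0 : Fin 3) ≠ 1))
      (y.injective.ne (by decide : (0 : Fin 3) ≠ 2)) (y.injective.ne (by decide : (1 : Fin 3) ≠ 2)) hd1 hd2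
    refine ⟨⟨P (g' * g⁻¹), _, rfl⟩, DFunLike.ext _ _ fun i => ?_⟩
    show (g' * g⁻¹) • x i = y i
    fin_cases i
    · show _ • x 0 = y 0
      rw [mul_smul, ← g1, inv_smul_smul, g1']
    · show _ • x 1 = y 1
      rw [mul_smul, ← g2, inv_smul_smul, g2']
    · show _ • x 2 = y 2
      rw [mul_smul, ← g3, inv_smul_smul, g3']
  obtain ⟨F, iF, iFt, hF, ⟨e⟩⟩ := Cfsg.Agent.Lib.Perm.SharpThreeComm.recognition_comm P.range
    (by have := Nat.card_pos (α := M); have := (Subgroup.one_lt_card_iff_ne_bot _).mpr h.ne_bot; omega) h3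
    (by
      rintro ⟨_, g, rfl⟩ a b c hab hac hbc ha hb hc
      exact Subtype.ext (show P g = 1 by rw [sharp h hk g a b c hab hac hbc ha hb hc, map_one]))
    (by
      rintro a b hab ⟨_, g, rfl⟩ ⟨_, g', rfl⟩ ha hb ha' hb'
      obtain ⟨x, x1, x2⟩ := normalise h hk hs hab
      have := kGrp_comm h (smul_sw_eq h hs (conj_fix h hk x1 ha) (conj_fix h hk x2 hb))
        (smul_sw_eq h hs (conj_fix h hk x1 ha') (conj_fix h hk x2 hb'))
      have e : g * g' = g' * g := by
        calc g * g' = x * ((x⁻¹ * g * x) * (x⁻¹ * g' * x)) * x⁻¹ := by group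
          _ = g' * g := by rw [this]; group
      exact Subtype.ext (by
        show P g * P g' = P g' * P g
        rw [← map_mul, e, map_mul]))
    (by
      rintro a b hab ⟨_, t, rfl⟩ ⟨_, g, rfl⟩ ht1 ht2 ha hb
      obtain ⟨x, x1, x2⟩ := normalise h hk hs hab
      have hk1 := smul_sw_eq h hs (conj_fix h hk x1 ha) (conj_fix h hk x2 hb)
      obtain ⟨s1, s2⟩ := sw_smul h hk hs
      have hsk : s⁻¹ * (x⁻¹ * t * x) ∈ kGrp M z := by
        refine smul_sw_eq h hs ?_ ?_
        · rw [mul_smul, mul_smul, mul_smul, x1, show t • a = b from ht1, ← x2, inv_smul_smul, inv_smul_eq_iff, s1]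
        · rw [mul_smul, mul_smul, mul_smul, x2, show t • b = a from ht2, ← x1, inv_smul_smul, inv_smul_eq_iff, s2]
      have hinv := sw_inverts h (sw_mul_kGrp h hs hsk) hk1
      rw [mul_inv_cancel_left] at hinv
      have e : t * g * t⁻¹ = g⁻¹ := by
        calc t * g * t⁻¹ = x * ((x⁻¹ * t * x) * (x⁻¹ * g * x) * (x⁻¹ * t * x)⁻¹) * x⁻¹ := by group
          _ = g⁻¹ := by rw [hinv]; group
      exact Subtype.ext (by
        show P t * P g * (P t)⁻¹ = (P g)⁻¹
        rw [← map_inv, ← map_mul, ← map_mul, e, map_inv]))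
  obtain ⟨x, hx, hx1⟩ := (Subgroup.bot_or_exists_ne_one M).resolve_left h.ne_bot
  obtain ⟨r, hr⟩ := CharP.exists F
  obtain ⟨n, hrp, hn⟩ := FiniteField.card F r
  haveI := Fact.mk hrp
  have hMr : Nat.card M = r ^ (n : ℕ) := by omega
  obtain ⟨w, hw⟩ := exists_prime_orderOf_dvd_card' (G := M) r (by rw [hMr]; exact dvd_pow_self r n.ne_zero)
  rw [← Subgroup.orderOf_coe] at hw
  refine ⟨F, iF, iFt, r, ⟨hrp⟩, hr, by omega, ⟨⟨⟨fun a b => Subtype.ext (comm h a.2 b.2)⟩⟩, fun a ha => ?_⟩,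
    ⟨(MonoidHom.ofInjective hP).trans e⟩⟩
  rcases eq_or_ne a 1 with rfl | ha1
  · exact one_pow r
  obtain ⟨k, -, rfl⟩ := htr w w.2 (fun e => by rw [e, orderOf_one] at hw; exact hrp.one_lt.ne hw) a ha ha1
  rw [← hw, ← orderOf_conj_eq' k (w : G), pow_orderOf_eq_one]

end Cfsg.Lib.TICount
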