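import Mathlib

/-!
# Abelian subgroups of `SL₂(F)` in characteristic `2` of exponent dividing `q + 1` are cyclic
-/

set_option autoImplicit false
set_option linter.style.haveILetI false

namespace Cfsg.Lib.TICount

open Polynomial Matrix

variable {F : Type*} [Field F] [Fintype F] [CharP F 2]

theorem isCyclic_torus (B : Subgroup (Matrix.SpecialLinearGroup (Fin 2) F))
    (hc : ∀ x ∈ B, ∀ y ∈ B, x * y = y * x) (he : ∀ x ∈ B, x ^ (Fintype.card F + 1) = 1) : IsCyclic B := by
  classical
  rcases B.bot_or_exists_ne_one with rfl | ⟨x, hx, hx1⟩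
  · infer_instance
  have h20 : (2 : F) = 0 := by exact_mod_cast CharP.cast_eq_zero F 2
  have heven : Even (Fintype.card F) := by
    obtain ⟨n, -, hn⟩ := FiniteField.card F 2
    rw [hn]; exact Nat.even_pow.mpr ⟨even_two, n.ne_zero⟩
  set X : Matrix (Fin 2) (Fin 2) F := x.1 with hX
  set t : F := X 0 0 + X 1 1 with ht
  have hdet : X 0 0 * X 1 1 - X 0 1 * X 1 0 = 1 := by rw [← Matrix.det_fin_two]; exact x.2
  have hCH : X * X = t • X - 1 := by
    ext i j
    fin_cases i <;> fin_cases j <;> simp [ht, Matrix.mul_apply, Fin.sum_univ_two] <;>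
      first | ring1 | linear_combination hdet | linear_combination -hdet
  have hroot : ∀ a : F, a * a - t * a + 1 ≠ 0 := by
    intro a ha
    have hd : (X - a • (1 : Matrix (Fin 2) (Fin 2) F)).det = 0 := by
      rw [Matrix.det_fin_two]
      simp
      linear_combination ha + hdet
    obtain ⟨v, hv, hXv⟩ := Matrix.exists_mulVec_eq_zero_iff.mpr hd
    rw [Matrix.sub_mulVec, sub_eq_zero, Matrix.smul_mulVec, Matrix.one_mulVec] at hXv
    have hpow : ∀ n : ℕ, (X ^ n) *ᵥ v = a ^ n • v := by
      intro n
      induction n with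
      | zero => simp
      | succ n ih => rw [pow_succ, ← Matrix.mulVec_mulVec, hXv, Matrix.mulVec_smul, ih, smul_smul, pow_succ, mul_comm]
    have h1 : a ^ (Fintype.card F + 1) = 1 := by
      have e := hpow (Fintype.card F + 1)
      rw [hX, ← Matrix.SpecialLinearGroup.coe_pow, he x hx, Matrix.SpecialLinearGroup.coe_one,
        Matrix.one_mulVec] at e
      by_contra hne
      refine hv (funext fun i => ?_)
      have := congrFun e i
      simp only [Pi.smul_apply, smul_eq_mul] at this
      by_contra hvi
      exact hne (mul_right_cancel₀ hvi (by rw [one_mul]; exact this.symm))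
    rw [pow_succ, FiniteField.pow_card] at h1
    have ha1 : a = 1 := frobenius_inj F 2 (show a ^ 2 = (1 : F) ^ 2 by rw [one_pow, sq, h1])
    have ht0 : t = 0 := by rw [ha1] at ha; linear_combination -ha + h20
    have hxx : x * x = 1 := Subtype.ext (by
      show X * X = 1
      rw [hCH, ht0, zero_smul, zero_sub]
      ext i j
      fin_cases i <;> fin_cases j <;> simp [CharTwo.neg_eq])
    obtain ⟨c, hc'⟩ := heven
    refine hx1 ?_
    have := he x hx
    rwa [hc', ← two_mul, pow_succ, pow_mul, sq, hxx, one_pow, one_mul] at this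
  set f : F[X] := Polynomial.X ^ 2 - C t * Polynomial.X + C 1 with hf
  have hdeg : f.natDegree = 2 := by rw [hf]; compute_degree!
  have hirr : Irreducible f := by
    refine (Polynomial.irreducible_iff_roots_eq_zero_of_degree_le_three (by omega) (by omega)).mpr ?_
    refine Multiset.eq_zero_of_forall_notMem fun a ha => hroot a ?_
    have := (Polynomial.isRoot_of_mem_roots ha)
    simpa [hf, Polynomial.IsRoot, sq] using this
  haveI := Fact.mk hirr
  let e : AdjoinRoot f →+* Matrix (Fin 2) (Fin 2) F :=
    Ideal.Quotient.lift (Ideal.span {f}) (Polynomial.aeval X).toRingHom (fun a ha => by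
      obtain ⟨b, rfl⟩ := Ideal.mem_span_singleton.mp ha
      simp [hf, sq, hCH, Algebra.smul_def])
  have emk : ∀ p : F[X], e (AdjoinRoot.mk f p) = Polynomial.aeval X p := fun p => rfl
  have hinj : Function.Injective e := e.injective
  have h10 : X 1 0 ≠ 0 := fun h => hroot (X 0 0) (by rw [h, mul_zero, sub_zero] at hdet; linear_combination -hdet)
  have hrange : ∀ m : B, ∃ r, e r = (m : Matrix.SpecialLinearGroup (Fin 2) F).1 := by
    intro m
    set N : Matrix (Fin 2) (Fin 2) F := (m : Matrix.SpecialLinearGroup (Fin 2) F).1 with hN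
    have hNX : N * X = X * N := congrArg Subtype.val (hc _ m.2 x hx)
    refine ⟨AdjoinRoot.mk f (C (N 0 0 - N 1 0 / X 1 0 * X 0 0) + C (N 1 0 / X 1 0) * Polynomial.X), ?_⟩
    have h00 := congrFun (congrFun hNX 0) 0
    have h1' := congrFun (congrFun hNX 1) 0
    simp [Matrix.mul_apply, Fin.sum_univ_two] at h00 h1'
    simp only [emk, map_add, map_mul, Polynomial.aeval_C, Polynomial.aeval_X]
    ext i j
    fin_cases i <;> fin_cases j <;> simp [Matrix.algebraMap_matrix_apply, Matrix.mul_apply,
      Fin.sum_univ_two] <;> field_simp <;> first | ring1 | linear_combination h00 | linear_combination -h00 | linear_combination h1' | linear_combination -h1'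
  choose g hg using hrange
  let χ : B →* AdjoinRoot f :=
    { toFun := g
      map_one' := hinj (by rw [hg, map_one]; rfl)
      map_mul' := fun a b => hinj (by rw [map_mul, hg, hg, hg]; rfl) }
  exact isCyclic_of_injective_ringHom χ (fun a b hab => Subtype.ext (Subtype.ext (by rw [← hg a, ← hg b]; exact congrArg e hab)))

end Cfsg.Lib.TICount
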