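import Cfsg.Agent.Lib.TICount.Basic
import Cfsg.Agent.Lib.TICount.Torus
import Cfsg.Agent.Lib.Invol.BaerSuzuki
import Cfsg.Agent.Lib.Core.Cores
import Cfsg.Agent.Lib.Solv.FixedPointFree
import Cfsg.Agent.Lib.Spec.SLTwo
import Cfsg.Agent.S0206
import Cfsg.Agent.S1229
import Cfsg.Agent.S4702
import Cfsg.Prelude.Def_Transfer

/-!
# The case `|K| = 2`
-/

set_option autoImplicit false
set_option linter.style.haveILetI false
set_option linter.unusedSectionVars false

namespace Cfsg.Lib.TICount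

open Subgroup

universe u

variable {G : Type u} [Group G] [Finite G] {M : Subgroup G} {z : G} (h : Setup M z)
  (hk : Nat.card ↥(kGrp M z) = 2)
include h hk

theorem cent_sq {c : G} (hc : c ∈ centralizer ({z} : Set G)) : c * c = 1 := by
  have hc' := mem_centralizer_singleton_iff.mp hc
  by_cases hN : c ∈ normalizer (M : Set G)
  · have := pow_card_eq_one' (G := ↥(kGrp M z)) (x := ⟨c, mem_kGrp.mpr ⟨hN, hc'⟩⟩)
    rw [hk] at this
    have := congrArg Subtype.val this
    simpa [sq] using this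
  · exact mul_self_of_orderOf (invol_of_cent h hc' hN)

theorem cent_comm : IsMulCommutative (centralizer ({z} : Set G)) := by
  refine ⟨⟨fun a b => Subtype.ext ?_⟩⟩
  have ha := cent_sq h hk a.2
  have hb := cent_sq h hk b.2
  have hab := cent_sq h hk (mul_mem a.2 b.2)
  show (a : G) * b = b * a
  calc (a : G) * b = ((a : G) * b) * (((a : G) * b) * ((a : G) * b))⁻¹ := by rw [hab]; group
    _ = (b : G)⁻¹ * (a : G)⁻¹ := by group
    _ = _ := by rw [inv_eq_of_mul_eq_one_right ha, inv_eq_of_mul_eq_one_right hb]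

/-- The parameters: `|C(z)| = 2^(d+1)`, `|M| ∈ {2^d + 1, 2^(d+1) + 1}`. -/
theorem small_params : ∃ d : ℕ, 1 ≤ d ∧ Nat.card ↥(centralizer ({z} : Set G)) = 2 * 2 ^ d ∧
    Nat.card (Sw M z) + 2 = 2 * 2 ^ d ∧
    (Nat.card M = 2 ^ d + 1 ∨ Nat.card M = 2 * 2 ^ d + 1) := by
  classical
  set C := centralizer ({z} : Set G) with hC
  haveI : Fact (Nat.Prime 2) := ⟨Nat.prime_two⟩
  obtain ⟨a, ha⟩ := IsPGroup.iff_card.mp (show IsPGroup 2 C from fun c => ⟨1, Subtype.ext (by
    show (c : G) ^ 2 ^ 1 = 1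
    rw [pow_one, sq, cent_sq h hk c.2])⟩)
  have hw : Nat.card (Sw M z) + 2 = 2 ^ a := by rw [← ha, ← hk]; exact card_sw_add h
  obtain ⟨s, hs⟩ := exists_sw h
  have hw1 : 1 ≤ Nat.card (Sw M z) := Nat.card_pos_iff.mpr ⟨⟨⟨s, hs⟩⟩, inferInstance⟩
  rcases a with _ | _ | a
  · rw [pow_zero] at hw; omega
  · rw [pow_one] at hw; omega
  refine ⟨a + 1, by omega, by rw [ha, pow_succ']; , by rw [hw, pow_succ']; , ?_⟩
  have hG := card_G h
  have hi := card_invol h
  have hle := index_cent_le h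
  rw [← C.card_mul_index, ha, hk] at hG
  rw [hi] at hle
  set A := 2 ^ (a + 1) with hA
  have hA2 : 2 ≤ A := by
    rw [hA, pow_succ]; have := Nat.one_le_two_pow (n := a); omega
  rw [pow_succ' 2 (a + 1), ← hA] at hG hw
  set m := Nat.card M
  set w := Nat.card (Sw M z)
  set j := C.index
  clear_value j
  clear_value A
  obtain ⟨B, rfl⟩ : ∃ B, A = B + 1 := ⟨A - 1, by omega⟩
  clear_value w
  obtain rfl : w = 2 * B := by omega
  have he : (B + 1) * j = m * (1 + B * m) := by linarith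
  have hm1 : 1 < m := Subgroup.one_lt_card_iff_ne_bot M |>.mpr h.ne_bot
  have hmodd : Nat.Coprime (B + 1) m := by
    rw [hA]
    refine Nat.Coprime.pow_left _ (Nat.prime_two.coprime_iff_not_dvd.mpr fun h2 => ?_)
    obtain ⟨x, hx⟩ := exists_prime_orderOf_dvd_card' 2 h2
    have := odd_orderOf h x.2
    rw [Subgroup.orderOf_coe, hx] at this
    exact absurd this (by decide)
  obtain ⟨q, hq⟩ := hmodd.dvd_of_dvd_mul_left ⟨j, he.symm⟩
  obtain rfl : j = m * q := by
    refine Nat.eq_of_mul_eq_mul_left (show 0 < B + 1 by omega) ?_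
    rw [he, hq]; ring
  have hq1 : q ≤ 2 * B + 1 := Nat.le_of_mul_le_mul_left (hle.trans (le_of_eq (by ring))) (by omega)
  have hBm : B * m ≤ B * (2 * B + 3) := by
    have := Nat.mul_le_mul_left (B + 1) hq1
    rw [← hq] at this
    nlinarith
  have hm3 : m ≤ 2 * B + 3 := Nat.le_of_mul_le_mul_left hBm (by omega)
  obtain ⟨r, hr⟩ : (B + 1) ∣ m - 1 := by
    have h1 : (B + 1) ∣ (B + 1) * m := dvd_mul_right _ _
    have h2 : (B + 1) * m - (1 + B * m) = m - 1 := by
      rw [add_mul, one_mul]; omega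
    rw [← h2]
    exact Nat.dvd_sub h1 (dvd_of_eq rfl |>.trans ⟨q, hq⟩)
  rcases r with _ | _ | _ | r
  · omega
  · exact Or.inl (by omega)
  · exact Or.inr (by omega)
  · have : (B + 1) * 3 ≤ (B + 1) * (r + 1 + 1 + 1) := Nat.mul_le_mul_left _ (by omega)
    omega

theorem cent_conj_sq {c t u : G} (ht : t = c * z * c⁻¹) (hu : u ∈ centralizer ({t} : Set G)) :
    c⁻¹ * u * c ∈ centralizer ({z} : Set G) := by
  rw [mem_centralizer_singleton_iff] at hu ⊢
  subst ht
  calc c⁻¹ * u * c * z = c⁻¹ * (u * (c * z * c⁻¹)) * c := by group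
    _ = c⁻¹ * ((c * z * c⁻¹) * u) * c := by rw [hu]
    _ = z * (c⁻¹ * u * c) := by group

/-- `|M| = 2|C(z) ∩ ...| + 1`: the group is `SL₂(2^e)`. -/
theorem sl_case (d : ℕ) (hd : 1 ≤ d) (hC : Nat.card ↥(centralizer ({z} : Set G)) = 2 * 2 ^ d)
    (hw : Nat.card (Sw M z) + 2 = 2 * 2 ^ d) (hm : Nat.card M = 2 * 2 ^ d + 1) :
    ∃ (F : Type) (_ : Field F) (_ : Fintype F) (e : ℕ), 1 < e ∧ Fintype.card F = 2 ^ e ∧ IsCyclic ↥M ∧
      Nat.card M = 2 ^ e + 1 ∧ Nonempty (G ≃* Matrix.ProjectiveSpecialLinearGroup (Fin 2) F) := by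
  classical
  haveI : Fact (Nat.Prime 2) := ⟨Nat.prime_two⟩
  set C := centralizer ({z} : Set G) with hCdef
  have hG := card_G h
  have hi := card_invol h
  rw [← C.card_mul_index, hC, hk] at hG
  have hA2 : 2 ≤ 2 ^ d := le_trans (le_of_eq (pow_one 2).symm) (Nat.pow_le_pow_right (by norm_num) hd)
  set A := 2 ^ d with hA
  obtain ⟨B, hB⟩ : ∃ B, A = B + 1 := ⟨A - 1, by omega⟩
  have hw' : Nat.card (Sw M z) = 2 * B := by omega
  rw [hm, hw'] at hi hG
  have hj : C.index = Nat.card {g : G // orderOf g = 2} := by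
    rw [hi]
    refine Nat.eq_of_mul_eq_mul_left (show 0 < 2 * A by omega) ?_
    rw [hG, hB]; ring
  have hconj := fun t ht => isConj_of_index_eq h hj (t := t) ht
  obtain ⟨T, hT⟩ := IsPGroup.exists_le_sylow (show IsPGroup 2 C from IsPGroup.of_card (n := d + 1)
    (by rw [hC, hA, pow_succ']))
  have hTC : (T : Subgroup G) = C := by
    refine (Subgroup.eq_of_le_of_card_ge hT ?_).symm
    obtain ⟨n, hn⟩ := IsPGroup.iff_card.mp T.2
    rw [hC, hn]
    have h1 : 2 ^ n ∣ 2 ^ (d + 1) * C.index := by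
      rw [← hn, show 2 ^ (d + 1) = Nat.card C by rw [hC, hA, pow_succ'], C.card_mul_index]
      exact Subgroup.card_subgroup_dvd_card _
    have hodd : Odd C.index := by
      rw [hj, hi]; exact ⟨(2 * B + 1) * A + B, by ring⟩
    have h2 := (Nat.Coprime.pow_left n (Nat.prime_two.coprime_iff_not_dvd.mpr
      (fun hh => (Nat.not_even_iff_odd.mpr hodd) (even_iff_two_dvd.mpr hh)))).dvd_of_dvd_mul_right h1
    have := Nat.le_of_dvd (by positivity) h2
    rwa [pow_succ', ← hA] at this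
  have hT1 : ∀ c ∈ (T : Subgroup G), c * c = 1 := fun c hc => cent_sq h hk (by rw [hTC] at hc; exact hc)
  have hTcard : Nat.card (T : Subgroup G) = 2 * A := by rw [hTC, hC]
  have hnc : ¬ IsCyclic (T : Subgroup G) := fun hcy => by
    obtain ⟨g, hg⟩ := hcy.exists_ofOrder_eq_natCard
    have h2 : orderOf g ∣ 2 := orderOf_dvd_of_pow_eq_one (Subtype.ext (by
      show (g : G) ^ 2 = 1
      rw [sq, hT1 _ g.2]))
    rw [hg, hTcard] at h2
    have := Nat.le_of_dvd (by norm_num) h2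
    omega
  have hnn : ¬ (T : Subgroup G).Normal := fun hn => by
    have hall : ∀ t : G, orderOf t = 2 → t ∈ (T : Subgroup G) := fun t ht => by
      obtain ⟨c, rfl⟩ := hconj t ht
      exact hn.conj_mem z (by rw [hTC, hCdef, mem_centralizer_singleton_iff]) c
    have := Nat.card_le_card_of_injective (fun t : {g : G // orderOf g = 2} => (⟨t.1, hall t.1 t.2⟩ : (T : Subgroup G)))
      fun a b e => Subtype.ext (congrArg (fun x : (T : Subgroup G) => (x : G)) e)
    rw [hTcard, hi] at this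
    nlinarith
  have hcom := cent_comm h hk
  obtain ⟨h3, hfix, hreg⟩ := Cfsg.Agent.S1229.result T hnc hnn fun t ht => by
    obtain ⟨c, hc⟩ := hconj t ht
    refine ⟨⟨⟨fun a b => Subtype.ext ?_⟩⟩, fun u hu => ?_⟩
    · have e := congrArg Subtype.val (hcom.is_comm.comm ⟨_, cent_conj_sq h hk hc a.2⟩ ⟨_, cent_conj_sq h hk hc b.2⟩)
      have e' : c⁻¹ * ((a : G) * b) * c = c⁻¹ * ((b : G) * a) * c := by
        simpa [mul_assoc] using e
      exact mul_left_cancel (mul_right_cancel e')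
    · have e := cent_sq h hk (cent_conj_sq h hk hc hu)
      rw [sq]
      calc u * u = c * (c⁻¹ * u * c * (c⁻¹ * u * c)) * c⁻¹ := by group
        _ = 1 := by rw [e]; group
  set H := normalizer ((T : Subgroup G) : Set G) with hH
  haveI := Fintype.ofFinite (G ⧸ H)
  set x0 : G ⧸ H := QuotientGroup.mk 1 with hx0
  obtain ⟨x1, hx1⟩ : ∃ x : G ⧸ H, x ≠ x0 := by
    by_contra hcon
    push Not at hcon
    exact hnn (normalizer_eq_top_iff.mp (eq_top_iff.mpr fun g _ => by
      have e := hcon (QuotientGroup.mk g)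
      rw [hx0, QuotientGroup.eq, mul_one] at e
      simpa [hH] using inv_mem e))
  have hfix0 : ∀ t ∈ (T : Subgroup G), t • x0 = x0 := fun t ht => by
    rw [hx0, MulAction.Quotient.smul_mk, smul_eq_mul, mul_one, QuotientGroup.eq, mul_one]
    exact inv_mem (le_normalizer ht)
  have hX : Fintype.card (G ⧸ H) = 2 * A + 1 := by
    rw [← hTcard, ← Nat.card_eq_fintype_card]
    rw [show Nat.card (T : Subgroup G) + 1 = Nat.card (Option (T : Subgroup G)) from Finite.card_option.symm]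
    refine (Nat.card_congr (Equiv.ofBijective
      (fun o => o.elim x0 fun t : (T : Subgroup G) => (t : G) • x1) ⟨?_, fun y => ?_⟩)).symm
    · rintro (_ | a) (_ | b) e
      · rfl
      · exact absurd (by simpa using (smul_left_cancel _ ((hfix0 _ b.2).trans e)).symm) hx1
      · exact absurd (by simpa using smul_left_cancel _ (e.trans (hfix0 _ a.2).symm)) hx1
      · have hy : (a : G) • x1 ≠ x0 := fun ee => hx1 (smul_left_cancel _ (ee.trans (hfix0 _ a.2).symm))
        obtain ⟨t, -, hu⟩ := hreg x1 _ hx1 hy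
        exact congrArg some (Subtype.ext ((hu a ⟨a.2, rfl⟩).trans (hu b ⟨b.2, e.symm⟩).symm))
    · rcases eq_or_ne y x0 with rfl | hy
      · exact ⟨none, rfl⟩
      · obtain ⟨t, ⟨ht, hty⟩, -⟩ := hreg x1 y hx1 hy
        exact ⟨some ⟨t, ht⟩, hty⟩
  let φ : G →* Equiv.Perm (G ⧸ H) := MulAction.toPermHom G (G ⧸ H)
  have hinj : Function.Injective φ := (injective_iff_map_eq_one φ).mpr fun g hg => by
    obtain ⟨a, b, c, hab, hac, hbc⟩ := Fintype.two_lt_card_iff.mp (show 2 < Fintype.card (G ⧸ H) by omega)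
    have e : ∀ x : G ⧸ H, g • x = x := fun x => Equiv.ext_iff.mp hg x
    exact hfix g a b c hab hac hbc (e a) (e b) (e c)
  obtain ⟨e, he1, hXe, F, _, _, hF, ⟨ψ⟩⟩ := Cfsg.Agent.S4702.result (α := G ⧸ H) (by omega)
    ⟨A, by omega⟩ φ.range
    (MulAction.isMultiplyPretransitive_iff.mpr fun {x y} => by
      obtain ⟨g, g1, g2, g3⟩ := h3 (x 0) (x 1) (x 2) (y 0) (y 1) (y 2)
        (x.injective.ne (by decide)) (x.injective.ne (by decide)) (x.injective.ne (by decide))
        (y.injective.ne (by decide)) (y.injective.ne (by decide)) (y.injective.ne (by decide))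
      refine ⟨⟨φ g, g, rfl⟩, Function.Embedding.ext fun i => ?_⟩
      fin_cases i
      · exact g1
      · exact g2
      · exact g3)
    (fun g hg => by
      obtain ⟨g', hg'⟩ := g.2
      rw [Nat.card_eq_fintype_card] at hg
      obtain ⟨a, b, c, hab, hac, hbc⟩ := Fintype.two_lt_card_iff.mp (show 2 < Fintype.card _ by exact hg)
      have e : ∀ x : MulAction.fixedBy (G ⧸ H) g, g' • (x : G ⧸ H) = x := fun x => by
        have := x.2
        rw [MulAction.mem_fixedBy, Subgroup.smul_def, ← hg'] at this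
        exact this
      have := hfix g' a b c (Subtype.coe_ne_coe.mpr hab) (Subtype.coe_ne_coe.mpr hac) (Subtype.coe_ne_coe.mpr hbc)
        (e a) (e b) (e c)
      exact Subtype.ext (by rw [← hg', this, map_one]; rfl))
  have hqA : 2 ^ e = 2 * A := by omega
  haveI : CharP F 2 := by
    obtain ⟨p, hp⟩ := CharP.exists F
    haveI := hp
    obtain ⟨n, hpp, hn⟩ := FiniteField.card F p
    rw [hF] at hn
    obtain rfl : p = 2 := (Nat.prime_dvd_prime_iff_eq hpp Nat.prime_two).mp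
      (hpp.dvd_of_dvd_pow (hn ▸ dvd_pow_self p n.ne_zero))
    exact hp
  let f : G ≃* Matrix.SpecialLinearGroup (Fin 2) F := (MonoidHom.ofInjective hinj).trans ψ
  refine ⟨F, inferInstance, inferInstance, e, ?_, hF, ?_, by omega, ⟨f.trans Cfsg.Lib.Spec.pslEquivOfCharTwo.symm⟩⟩
  · rcases e with _ | _ | e
    · omega
    · rw [pow_one] at hqA; omega
    · omega
  · have hB' : IsCyclic (M.map f.toMonoidHom) := isCyclic_torus _
      (by rintro _ ⟨x, hx, rfl⟩ _ ⟨y, hy, rfl⟩; rw [← map_mul, ← map_mul, comm h hx hy])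
      (by
        rintro _ ⟨x, hx, rfl⟩
        rw [← map_pow, hF, hqA, ← hm]
        have := congrArg Subtype.val (pow_card_eq_one' (G := M) (x := ⟨x, hx⟩))
        rw [Subgroup.coe_pow, Subgroup.coe_one] at this
        rw [this, map_one])
    exact (MulEquiv.isCyclic (M.equivMapOfInjective f.toMonoidHom f.injective)).mpr hB'

/-- `|M| = 2^d + 1`: the group is `2^(2d) : D_{2(2^d+1)}`. -/
theorem dihedral_case (d : ℕ) (hd : 1 ≤ d) (hC : Nat.card ↥(centralizer ({z} : Set G)) = 2 * 2 ^ d)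
    (hw : Nat.card (Sw M z) + 2 = 2 * 2 ^ d) (hm : Nat.card M = 2 ^ d + 1) :
    ∃ E : Subgroup G, E.Normal ∧ Cfsg.IsElementaryAbelian 2 E ∧ Nat.card E = 2 ^ (2 * d) ∧
      E ⊓ normalizer (M : Set G) = ⊥ ∧ E ⊔ normalizer (M : Set G) = ⊤ ∧
      Nonempty (↥(normalizer (M : Set G)) ≃* DihedralGroup (2 ^ d + 1)) := by
  classical
  haveI : Fact (Nat.Prime 2) := ⟨Nat.prime_two⟩
  set N := normalizer (M : Set G) with hN
  set C := centralizer ({z} : Set G) with hCdef
  have hG := card_G h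
  have hi := card_invol h
  rw [← C.card_mul_index, hC, hk] at hG
  have hA2 : 2 ≤ 2 ^ d := le_trans (le_of_eq (pow_one 2).symm) (Nat.pow_le_pow_right (by norm_num) hd)
  set A := 2 ^ d with hA
  obtain ⟨B, hB⟩ : ∃ B, A = B + 1 := ⟨A - 1, by omega⟩
  have hw' : Nat.card (Sw M z) = 2 * B := by omega
  rw [hm, hw'] at hi hG
  have hj : C.index = (A + 1) * A := by
    refine Nat.eq_of_mul_eq_mul_left (show 0 < 2 * A by omega) ?_
    rw [hG, hB]; ring
  have hcG : Nat.card G = 2 ^ (2 * d + 1) * (A + 1) := by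
    rw [← C.card_mul_index, hC, hj, hA]; ring
  have hMi : M.index = 2 ^ (2 * d + 1) := by
    refine Nat.eq_of_mul_eq_mul_left (show 0 < A + 1 by omega) ?_
    rw [← hm, M.card_mul_index, hcG, hm, mul_comm]
  have hNcard : Nat.card N = (A + 1) * 2 := by rw [hN, card_N h, hm, hk]
  have hNi : N.index = A * A := by
    refine Nat.eq_of_mul_eq_mul_left (show 0 < (A + 1) * 2 by omega) ?_
    rw [← hNcard, N.card_mul_index, hcG, hNcard, hA]; ring
  -- every element of odd prime order is conjugate into `M`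
  have hsyl : ∀ r : ℕ, r.Prime → r ≠ 2 → ∀ x : G, orderOf x = r → ∃ g : G, g⁻¹ * x * g ∈ M := by
    intro r hr hr2 x hx
    haveI := Fact.mk hr
    let P0 : Sylow r M := default
    let P : Sylow r G := Sylow.ofCard ((P0 : Subgroup M).map M.subtype) (by
      rw [Subgroup.card_map_of_injective M.subtype_injective, P0.card_eq_multiplicity]
      congr 1
      rw [← M.card_mul_index, Nat.factorization_mul Nat.card_pos.ne' M.index_ne_zero_of_finite, Finsupp.add_apply,
        hMi, Nat.factorization_pow, Finsupp.smul_apply, Nat.Prime.factorization Nat.prime_two,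
        Finsupp.single_eq_of_ne hr2]
      simp)
    obtain ⟨Q, hQ⟩ := IsPGroup.exists_le_sylow (show IsPGroup r (zpowers x) from
      IsPGroup.of_card (n := 1) (by rw [Nat.card_zpowers, hx, pow_one]))
    obtain ⟨g, hg⟩ := MulAction.exists_smul_eq G P Q
    have hxQ := hQ (mem_zpowers x)
    rw [← hg, Sylow.coe_subgroup_smul, Subgroup.mem_pointwise_smul_iff_inv_smul_mem] at hxQ
    obtain ⟨y, -, hy⟩ := hxQ
    refine ⟨g, ?_⟩
    have e : g⁻¹ * x * g = M.subtype y := by rw [hy]; simp [MulAut.smul_def]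
    rw [e]; exact y.2
  -- involutions outside `z^G` lie in `O_2(G)`
  let Z : Set G := Set.range fun c : G ⧸ C => c.out * z * c.out⁻¹
  have hZ : ∀ t : G, (∃ c : G, t = c * z * c⁻¹) → t ∈ Z := by
    rintro _ ⟨c, rfl⟩
    refine ⟨QuotientGroup.mk c, ?_⟩
    obtain ⟨u, hu⟩ := QuotientGroup.mk_out_eq_mul C c
    show Quotient.out _ * z * (Quotient.out _)⁻¹ = _
    rw [hu]
    have hu' := mem_centralizer_singleton_iff.mp u.2
    calc c * (u : G) * z * (c * u)⁻¹ = c * ((u : G) * z) * (u : G)⁻¹ * c⁻¹ := by group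
      _ = _ := by rw [hu']; group
  have hkey : ∀ t : G, orderOf t = 2 → t ∉ Z → t ∈ Cfsg.pCore 2 G := by
    intro t ht htZ
    by_contra hcon
    obtain ⟨y, hy1, hyodd, hty⟩ := Cfsg.Lib.Invol.exists_inverted_odd ht
      (fun R hR hR2 htR => hcon (Cfsg.Lib.Core.le_pCore' hR hR2 htR))
    obtain ⟨r, hr, hrd⟩ := Nat.exists_prime_and_dvd (fun e => hy1 (orderOf_eq_one_iff.mp e))
    have hr2 : r ≠ 2 := by
      rintro rfl
      exact (Nat.not_even_iff_odd.mpr hyodd) (even_iff_two_dvd.mpr hrd)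
    set x := y ^ (orderOf y / r) with hxdef
    have hx : orderOf x = r := by
      rw [hxdef, orderOf_pow, Nat.gcd_eq_right (Nat.div_dvd_of_dvd hrd), Nat.div_div_self hrd (orderOf_pos y).ne']
    obtain ⟨g, hu⟩ := hsyl r hr hr2 x hx
    have htx : t * x * t⁻¹ = x⁻¹ := by rw [hxdef, ← conj_pow, hty, inv_pow]
    have hu1 : g⁻¹ * x * g ≠ 1 := fun e => hr.ne_one (by
      rw [← hx, show x = g * (g⁻¹ * x * g) * g⁻¹ by group, e]; simp)
    have htN : g⁻¹ * t * g ∈ N := mem_N_of_conj h hu hu1 (by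
      have e : g⁻¹ * t * g * (g⁻¹ * x * g) * (g⁻¹ * t * g)⁻¹ = (g⁻¹ * x * g)⁻¹ := by
        calc _ = g⁻¹ * (t * x * t⁻¹) * g := by group
          _ = _ := by rw [htx]; group
      rw [e]; exact inv_mem hu)
    have ht' : orderOf (g⁻¹ * t * g) = 2 := by
      have := orderOf_conj_eq' g⁻¹ t
      rwa [inv_inv, ht] at this
    obtain ⟨u, hu', e⟩ := invol_N h ht' htN
    obtain ⟨k, hk'⟩ := odd_orderOf h hu'
    refine htZ (hZ t ⟨g * u ^ (k + 1), ?_⟩)
    have hz' : u ^ (k + 1) * z * (u ^ (k + 1))⁻¹ = u * z := by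
      have e1 : z * (u ^ (k + 1))⁻¹ = u ^ (k + 1) * z := by
        have := inverts h (pow_mem hu' (k + 1))
        rw [← this, ← mul_assoc, ← mul_assoc, mul_self_of_orderOf h.invol, one_mul, inv_of_orderOf h.invol]
      rw [mul_assoc, e1, ← mul_assoc, ← pow_add, show k + 1 + (k + 1) = 2 * k + 1 + 1 by omega, pow_succ,
        ← hk', pow_orderOf_eq_one, one_mul]
    calc t = g * (g⁻¹ * t * g) * g⁻¹ := by group
      _ = g * (u ^ (k + 1) * z * (u ^ (k + 1))⁻¹) * g⁻¹ := by rw [e, hz']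
      _ = _ := by group
  set R := Cfsg.pCore 2 G with hR
  haveI hRn : R.Normal := by
    rw [hR]; infer_instance
  have hR2 : IsPGroup 2 R := Cfsg.Lib.Core.pCore_isPGroup 2 G
  obtain ⟨n, hn⟩ := IsPGroup.iff_card.mp hR2
  have hRM : ∀ x ∈ R, x ∈ M → x = 1 := fun x hxR hxM => by
    have h1 := R.orderOf_dvd_natCard hxR
    rw [hn] at h1
    exact orderOf_eq_one_iff.mp (Nat.eq_one_of_dvd_coprimes
      (Nat.Coprime.pow_left n (Nat.coprime_two_left.mpr (odd_orderOf h hxM))) h1 dvd_rfl)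
  have hRN : R ⊓ N = ⊥ := by
    refine (Subgroup.eq_bot_iff_forall _).mpr fun r hr => ?_
    obtain ⟨x, hx, hx1⟩ := M.bot_or_exists_ne_one.resolve_left h.ne_bot
    refine hRM r hr.1 (cent_M h hx hx1 ?_)
    have h1 : r * x * r⁻¹ * x⁻¹ ∈ M := mul_mem (conj_mem h hr.2 hx) (inv_mem hx)
    have h2 : r * x * r⁻¹ * x⁻¹ ∈ R := by
      rw [show r * x * r⁻¹ * x⁻¹ = r * (x * r⁻¹ * x⁻¹) by group]
      exact mul_mem hr.1 (hRn.conj_mem _ (inv_mem hr.1) x)
    have h3 := hRM _ h2 h1
    rw [mul_inv_eq_one, mul_inv_eq_iff_eq_mul] at h3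
    exact h3
  have hRle : Nat.card R ≤ A * A := by
    rw [← hNi]
    refine Nat.card_le_card_of_injective (fun r : R => (QuotientGroup.mk (r : G) : G ⧸ N)) fun a b e => ?_
    rw [QuotientGroup.eq] at e
    have := (Subgroup.eq_bot_iff_forall _).mp hRN _ (Subgroup.mem_inf.mpr ⟨R.mul_mem (R.inv_mem a.2) b.2, e⟩)
    exact Subtype.ext (inv_mul_eq_one.mp this)
  let S : Set G := insert 1 ({t | orderOf t = 2} \ Z)
  have hZ2 : Z ⊆ {t | orderOf t = 2} := by
    rintro _ ⟨c, rfl⟩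
    show orderOf _ = 2
    rw [orderOf_conj_eq', h.invol]
  have hScard : A * A ≤ S.ncard := by
    have h1 : 1 ∉ ({t : G | orderOf t = 2} \ Z) := fun e => by simpa using e.1
    rw [Set.ncard_insert_of_notMem h1, Set.ncard_sdiff hZ2]
    have h2 : Z.ncard ≤ C.index := by
      rw [← Nat.card_coe_set_eq]
      exact Nat.card_le_card_of_surjective _ Set.rangeFactorization_surjective
    have h3 : ({t : G | orderOf t = 2} : Set G).ncard = Nat.card {g : G // orderOf g = 2} :=
      (Nat.card_coe_set_eq _).symm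
    rw [h3, hi]
    rw [hj] at h2
    have h4 : (A + 1) + (A + 1) * (2 * B) = A * A + (A + 1) * A - 1 := by
      rw [hB]; ring_nf; omega
    omega
  have hSR : S ⊆ R := by
    rintro t (rfl | ⟨ht, htZ⟩)
    · exact one_mem R
    · exact hkey t ht htZ
  have hSeq : S = (R : Set G) := Set.eq_of_subset_of_ncard_le hSR (by
    rw [← Nat.card_coe_set_eq (s := (R : Set G))]; exact hRle.trans hScard)
  have hRcard : Nat.card R = A * A := le_antisymm hRle (hScard.trans (by
    rw [← Nat.card_coe_set_eq]; exact Nat.card_mono (Set.toFinite _) hSR))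
  have hRsq : ∀ r ∈ R, r ^ 2 = 1 := fun r hr => by
    rcases (hSeq ▸ hr : r ∈ S) with rfl | ⟨ht, -⟩
    · exact one_pow 2
    · rw [sq]; exact mul_self_of_orderOf ht
  have hRab : IsMulCommutative R := by
    refine ⟨⟨fun a b => Subtype.ext ?_⟩⟩
    have ha := hRsq _ a.2
    have hb := hRsq _ b.2
    have hab := hRsq _ (mul_mem a.2 b.2)
    rw [sq] at ha hb hab
    show (a : G) * b = b * a
    calc (a : G) * b = ((a : G) * b) * (((a : G) * b) * ((a : G) * b))⁻¹ := by rw [hab]; group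
      _ = (b : G)⁻¹ * (a : G)⁻¹ := by group
      _ = _ := by rw [inv_eq_of_mul_eq_one_right ha, inv_eq_of_mul_eq_one_right hb]
  have hsup : R ⊔ N = ⊤ := by
    refine (Subgroup.isComplement'_of_card_mul_and_disjoint ?_ (disjoint_iff.mpr hRN)).sup_eq_top
    rw [hRcard, hNcard, hcG, hA]; ring
  haveI : IsMulCommutative M := ⟨⟨fun a b => Subtype.ext (comm h a.2 b.2)⟩⟩
  have hcyc : IsCyclic M := Cfsg.Lib.Solv.isCyclic_of_fpf_abelian (B := M) (V := R)
    (fun e => by rw [e, Subgroup.card_bot] at hRcard; nlinarith)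
    (by rw [Subgroup.normalizer_eq_top]; exact le_top)
    (fun b hb hb1 => (Subgroup.eq_bot_iff_forall _).mpr fun r hr => hRM r hr.1
      (cent_M h hb hb1 (mem_centralizer_singleton_iff.mp hr.2)))
  obtain ⟨x, hx⟩ := hcyc.exists_ofOrder_eq_natCard
  rw [← Subgroup.orderOf_coe, hm] at hx
  have hne : (x : G) * z ≠ z := fun e => by
    rw [mul_eq_right.mp e, orderOf_one] at hx
    omega
  obtain ⟨ψ⟩ := Cfsg.Agent.S0206.result ((x : G) * z) z (orderOf_mul_z h x.2) h.invol hne
  rw [mul_assoc, mul_self_of_orderOf h.invol, mul_one, hx] at ψ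
  have hle : closure ({(x : G) * z, z} : Set G) ≤ N := by
    rw [closure_le, Set.insert_subset_iff, Set.singleton_subset_iff]
    exact ⟨mul_mem (le_normalizer x.2) h.mem, h.mem⟩
  have hcl : closure ({(x : G) * z, z} : Set G) = N := Subgroup.eq_of_le_of_card_ge hle (by
    rw [Nat.card_congr ψ.toEquiv, DihedralGroup.nat_card, hNcard, mul_comm])
  exact ⟨R, hRn, ⟨hRab, hRsq⟩, by rw [hRcard, hA]; ring, hRN, hsup,
    ⟨(MulEquiv.subgroupCongr hcl.symm).trans ψ⟩⟩

end Cfsg.Lib.TICount
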